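import Cfsg.Agent.Lib.Char.MTwentyFourOrder.Phase.Code

/-!
# Simple groups of order 244823040: the test at a leaf of the search

At a leaf the multiplicities of the degrees not divisible by 35 are known.  Those of the six others
are determined by the sum of the squares and by the numbers of characters of degree prime to 23 and
to 11.
-/

set_option autoImplicit false

namespace CfsgLib.Char.MTwentyFourOrder

/-- The candidate degree lists that remain. -/
def finals : List (List ℕ) := [
  [1, 23, 45, 45, 231, 231, 252, 253, 483, 770, 770, 990, 990, 1035, 1035, 1035, 1265, 1771, 2024,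
    2277, 3312, 3520, 5313, 5544, 5796, 10395],
  [1, 23, 45, 45, 231, 231, 252, 253, 483, 770, 770, 990, 990, 1035, 1265, 1518, 1518, 1771, 2024,
    2760, 3312, 3520, 4830, 5544, 5796, 10395],
  [1, 45, 45, 230, 231, 231, 252, 253, 253, 483, 483, 770, 770, 990, 990, 1035, 1265, 1265, 1288,
    1771, 2024, 2277, 3520, 3795, 4830, 5544, 5796, 10395],
  [1, 45, 45, 231, 231, 252, 253, 483, 483, 770, 770, 990, 990, 1035, 1265, 1265, 1265, 1288, 1288,
    1771, 2024, 3312, 3520, 3795, 3795, 5544, 5796, 10395]]

/-- The multiplicities of a list of degrees. -/
def countsOf (l : List ℕ) : List ℕ := base.map fun d => l.count d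

/-- The multiplicities of the lists that remain. -/
def finalCounts : List (List ℕ) := finals.map countsOf

/-- The weighted sum of multiplicities. -/
def wsum (f : ℕ → ℤ) (cs : List ℕ) : ℤ :=
  (List.zipWith (fun d c => f d * (c : ℤ)) base cs).sum

/-- The weighted sum of multiplicities, natural weights. -/
def nsum (f : ℕ → ℕ) (cs : List ℕ) : ℕ := (List.zipWith (fun d c => f d * c) base cs).sum

/-- The signed degree at eleven. -/
def sgnEleven (d : ℕ) : ℤ := if d % 11 = 1 then d else if d % 11 = 10 then -d else 0

/-- Twice the signed degree at 23, the exceptional ones once. -/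
def relBig (d : ℕ) : ℤ :=
  if d % 23 = 1 then 2 * d else if d % 23 = 22 then -(2 * d) else if d % 23 = 11 then -(d : ℤ) else
    if d % 23 = 12 then d else 0

/-- Exceptional at 23. -/
def isExc (d : ℕ) : Bool := (d % 23 == 11) || (d % 23 == 12)

/-- The conditions at eleven and at 23 on multiplicities. -/
def sideOK (cs : List ℕ) : Bool :=
  (wsum sgnEleven cs == 0) && (nsum (fun d => (isExc d).toNat) cs == 2) &&
    (List.zipWith (fun d c => isExc d && c == 2) base cs).any id && (wsum relBig cs == 0)

/-- The test of a complete vector of multiplicities. -/
def lastTest (cs : List ℕ) : Bool := !sideOK cs || finalCounts.contains cs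

/-- The multiplicities with those of the multiples of 35 added. -/
def fill (cs : List ℕ) (u v m z x y : ℕ) : List ℕ :=
  List.zipWith (fun d c => c + (if d = 770 then u else if d = 1540 then v else if d = 4830 then m
    else if d = 8855 then z else if d = 10395 then x else if d = 12880 then y else 0)) base cs

/-- The multiplicities in two codes. -/
def counts (F S : ℕ) : List ℕ :=
  (List.range base.length).map fun i => max ((F >>> (5 * i)) &&& 31) ((S >>> (5 * i)) &&& 31)

/-- The test of the multiplicities at a leaf. -/
def leafCounts (cs : List ℕ) : Bool :=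
  let a := nsum (fun d => (d % 23 != 0).toNat) cs
  let b := nsum (fun d => (d % 11 != 0).toNat) cs
  let q := nsum (fun d => d * d) cs
  (List.range 3).all fun x => (List.range 2).all fun y => (List.range 4).all fun z =>
    if a + x ≤ 13 ∧ b + y ≤ 11 then
      let n := 13 - a - x
      let m := 11 - b - y
      let s := q + x * 108056025 + y * 165894400 + z * 78411025 + m * 23328900
      if s ≤ 244823040 ∧ 244823040 ≤ s + n * 2371600 then
        let t := s + n * 2371600 - 244823040
        if t % 1778700 = 0 ∧ t / 1778700 ≤ n then
          lastTest (fill cs (t / 1778700) (n - t / 1778700) m z x y)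
        else true
      else true
    else true

/-- The test at a leaf. -/
def leaf (F S : ℕ) : Bool := leafCounts (counts F S)

/-- Soundness of the test at a leaf. -/
theorem leafCounts_sound {cs : List ℕ} (h : leafCounts cs = true) {u v m z x y : ℕ}
    (hn : nsum (fun d => (d % 23 != 0).toNat) cs + u + v + x = 13)
    (hm : nsum (fun d => (d % 11 != 0).toNat) cs + m + y = 11)
    (hq : nsum (fun d => d * d) cs + u * 592900 + v * 2371600 + m * 23328900 + z * 78411025 +
      x * 108056025 + y * 165894400 = 244823040)
    (hside : sideOK (fill cs u v m z x y) = true) : fill cs u v m z x y ∈ finalCounts := by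
  simp only [leafCounts, List.all_eq_true, List.mem_range] at h
  have h1 := h x (by omega) y (by omega) z (by omega)
  have em : 11 - nsum (fun d => (d % 11 != 0).toNat) cs - y = m := by omega
  have en : 13 - nsum (fun d => (d % 23 != 0).toNat) cs - x = u + v := by omega
  rw [if_pos ⟨by omega, by omega⟩, em, en, if_pos ⟨by omega, by omega⟩] at h1
  have et : nsum (fun d => d * d) cs + x * 108056025 + y * 165894400 + z * 78411025 + m * 23328900 +
      (u + v) * 2371600 - 244823040 = u * 1778700 := by omega
  rw [et, Nat.mul_mod_left, Nat.mul_div_cancel _ (by norm_num), if_pos ⟨rfl, by omega⟩,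
    show u + v - u = v by omega] at h1
  simpa [lastTest, hside] using h1

end CfsgLib.Char.MTwentyFourOrder
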