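import Cfsg.Agent.Lib.Char.MTwentyFourOrder.Phase.Code

/-!
# Simple groups of order 244823040: a search through the choices of blocks

The blocks at five go to the first code, those at seven to the second.  At each node the remaining
lists of candidates are filtered and a shortest one is branched on.
-/

set_option autoImplicit false
set_option maxRecDepth 4000

namespace CfsgLib.Char.MTwentyFourOrder

/-- A packed block: the code of its degrees prime to 35 and, degree by degree, shift, unit and
features. -/
abbrev Blk := ℕ × List (ℕ × ℕ × ℕ)

/-- The packed block of a list of degrees. -/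
def mkBlk (l : List ℕ) : Blk :=
  (codeB (l : Multiset ℕ), l.map fun d => (sh d, 32 ^ base.idxOf d, feat d))

/-- Add elements to the first code, updating the features of the union. -/
noncomputable def addEls (els : List (ℕ × ℕ × ℕ)) (B : ℕ) : ℕ → ℕ → ℕ × ℕ :=
  List.rec (motive := fun _ => ℕ → ℕ → ℕ × ℕ) (fun A W => (W, A))
    (fun h _ ih A W => ih (A + h.2.1)
      (bif Nat.blt ((A >>> h.1) &&& 31) ((B >>> h.1) &&& 31) then W else W + h.2.2)) els

/-- Whether a block can still be chosen. -/
noncomputable def fits (last : Bool) (b : Blk) (W A B AB BB : ℕ) : Bool :=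
  (bif last then Nat.beq ((AB + b.1 + guardB - BB) &&& guardB) guardB else true) &&
    wGood (addEls b.2 B A W).1

/-- The number of remaining lists on a side. -/
noncomputable def sideCount (side : Bool) (rem : List (Bool × List Blk)) : ℕ :=
  List.rec 0 (fun h _ ih => bif (h.1 == side) then ih + 1 else ih) rem

/-- The candidates that fit. -/
noncomputable def keep (P : Blk → Bool) (c : List Blk) : List Blk :=
  List.rec [] (fun b _ ih => bif P b then b :: ih else ih) c

/-- All lists filtered. -/
noncomputable def keepAll (all : List (Bool × List Blk)) (W F S FB SB : ℕ)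
    (rem : List (Bool × List Blk)) : List (Bool × List Blk) :=
  List.rec [] (fun h _ ih =>
    (bif h.1 then (true, keep (fun b => fits (Nat.beq (sideCount true all) 1) b W F S FB SB) h.2)
      else (false, keep (fun b => fits (Nat.beq (sideCount false all) 1) b W S F SB FB) h.2)) :: ih) rem

/-- Whether some list is empty. -/
noncomputable def someEmpty (rem : List (Bool × List Blk)) : Bool :=
  List.rec false (fun h _ ih => h.2.isEmpty || ih) rem

/-- The length of a list. -/
noncomputable def len (c : List Blk) : ℕ := List.rec 0 (fun _ _ ih => ih + 1) c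

/-- A shortest list and the others. -/
noncomputable def pickMin (rem : List (Bool × List Blk)) :
    (Bool × List Blk) × List (Bool × List Blk) :=
  List.rec ((false, []), []) (fun h t ih =>
    bif t.isEmpty then (h, []) else
      bif Nat.ble (len h.2) (len ih.1.2) then (h, t) else (ih.1, h :: ih.2)) rem

/-- Whether all members satisfy a predicate. -/
noncomputable def allB (P : Blk → Bool) (c : List Blk) : Bool :=
  List.rec true (fun b _ ih => P b && ih) c

/-- The search: `true` means that every leaf passes the test. -/
noncomputable def go (leaf : ℕ → ℕ → Bool) (fuel : ℕ) :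
    List (Bool × List Blk) → ℕ → ℕ → ℕ → ℕ → ℕ → Bool :=
  Nat.rec (motive := fun _ => List (Bool × List Blk) → ℕ → ℕ → ℕ → ℕ → ℕ → Bool)
    (fun rem _ F S FB SB => rem.isEmpty && (bif Nat.beq FB SB then leaf F S else true))
    (fun _ ih rem W F S FB SB =>
      bif rem.isEmpty then (bif Nat.beq FB SB then leaf F S else true) else
      let new := keepAll rem W F S FB SB rem
      bif someEmpty new then true else
      let p := pickMin new
      allB (fun b =>
        bif p.1.1 then
          ih p.2 (addEls b.2 S F W).1 (addEls b.2 S F W).2 S (FB + b.1) SB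
        else
          ih p.2 (addEls b.2 F S W).1 F (addEls b.2 F S W).2 FB (SB + b.1)) p.1.2) fuel

/-! ### Soundness -/

theorem union_cons {a b : Multiset ℕ} (d : ℕ) :
    (d ::ₘ a) ∪ b = if a.count d < b.count d then a ∪ b else d ::ₘ (a ∪ b) := by
  ext x
  by_cases hx : x = d
  · subst hx
    split_ifs with h <;>
      simp only [Multiset.count_union, Multiset.count_cons_self] <;> omega
  · split_ifs with h <;>
      simp [Multiset.count_union, Multiset.count_cons_of_ne hx]

theorem addEls_spec (l : List ℕ) (b : Multiset ℕ) (W₀ : ℕ) (hlb : ∀ d ∈ l, d ∈ base)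
    (hb : ∀ d ∈ b, d ∈ base) (hcb : ∀ x, b.count x < 32) :
    ∀ a : Multiset ℕ, (∀ d ∈ a, d ∈ base) → (∀ x, ((l : Multiset ℕ) + a).count x < 32) →
      addEls (mkBlk l).2 (code b) (code a) (W₀ + featSum (a ∪ b)) =
        (W₀ + featSum (((l : Multiset ℕ) + a) ∪ b), code ((l : Multiset ℕ) + a)) := by
  induction l with
  | nil => intro a _ _; simp [mkBlk, addEls]
  | cons d l ih =>
    intro a ha hc
    have hd : d ∈ base := hlb d (by simp)
    have hca : ∀ x, a.count x < 32 := fun x => by
      have := hc x
      rw [Multiset.count_add] at this
      omega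
    have e : ((d :: l : List ℕ) : Multiset ℕ) + a = (l : Multiset ℕ) + (d ::ₘ a) := by
      rw [← Multiset.cons_coe, Multiset.cons_add, Multiset.add_cons]
    show addEls (mkBlk l).2 (code b) (code a + 32 ^ base.idxOf d)
      (bif Nat.blt ((code a >>> sh d) &&& 31) ((code b >>> sh d) &&& 31) then
        W₀ + featSum (a ∪ b) else W₀ + featSum (a ∪ b) + feat d) = _
    rw [e, fld_code ha hca hd, fld_code hb hcb hd, add_comm (code a), ← code_cons,
      show (bif Nat.blt (a.count d) (b.count d) then W₀ + featSum (a ∪ b)
        else W₀ + featSum (a ∪ b) + feat d) = W₀ + featSum ((d ::ₘ a) ∪ b) from ?_]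
    · exact ih (fun x hx => hlb x (List.mem_cons_of_mem _ hx)) (d ::ₘ a)
        (fun x hx => by rcases Multiset.mem_cons.1 hx with rfl | h <;> [exact hd; exact ha x h])
        (e ▸ hc)
    · rw [union_cons]
      by_cases h : a.count d < b.count d
      · rw [if_pos h, show Nat.blt (a.count d) (b.count d) = true by
          rw [Nat.blt, Nat.ble_eq]; omega, cond_true]
      · rw [if_neg h, show Nat.blt (a.count d) (b.count d) = false by
          rw [Bool.eq_false_iff, Ne, Nat.blt, Nat.ble_eq]; omega, cond_false, featSum_cons]
        ring

theorem ofDigits_map_add {α : Type*} (B : ℕ) (f g : α → ℕ) : ∀ l : List α,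
    Nat.ofDigits B (l.map f) + Nat.ofDigits B (l.map g) =
      Nat.ofDigits B (l.map fun x => f x + g x) := by
  intro l
  induction l with
  | nil => simp
  | cons a l ih =>
    simp only [List.map_cons, Nat.ofDigits_cons]
    rw [← ih]
    ring

theorem guardB_eq : guardB =
    Nat.ofDigits (2 ^ 5) (base.map fun d => if isBoth d = true then 16 else 0) := by
  decide +kernel

/-- The test for the last block of a side. -/
theorem need_ok {x y : Multiset ℕ} (hx : ∀ d ∈ x, d ∈ base) (hy : ∀ d ∈ y, d ∈ base)
    (hcx : ∀ d, x.count d < 16) (hle : ∀ d, isBoth d = true → y.count d ≤ x.count d) :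
    (codeB x + guardB - codeB y) &&& guardB = guardB := by
  have hfx : ∀ d ∈ x.filter (fun d => isBoth d = true), d ∈ base :=
    fun d hd => hx d (Multiset.mem_filter.1 hd).1
  have hfy : ∀ d ∈ y.filter (fun d => isBoth d = true), d ∈ base :=
    fun d hd => hy d (Multiset.mem_filter.1 hd).1
  rw [codeB, codeB, code_eq hfx, code_eq hfy, guardB_eq]
  set z : ℕ → ℕ := fun d =>
    if isBoth d = true then x.count d + 16 - y.count d else 0 with hz
  have e : Nat.ofDigits (2 ^ 5) (base.map fun b => (x.filter fun d => isBoth d = true).count b) +
      Nat.ofDigits (2 ^ 5) (base.map fun d => if isBoth d = true then 16 else 0) =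
      Nat.ofDigits (2 ^ 5) (base.map z) +
        Nat.ofDigits (2 ^ 5) (base.map fun b => (y.filter fun d => isBoth d = true).count b) := by
    rw [ofDigits_map_add, ofDigits_map_add]
    congr 1
    refine List.map_congr_left fun d _ => ?_
    simp only [hz, Multiset.count_filter]
    by_cases hd : isBoth d = true
    · have := hle d hd
      simp only [hd, if_true]
      omega
    · simp [hd]
  rw [e, Nat.add_sub_cancel]
  have hl := land_digits 5 (base.map z) (base.map fun d => if isBoth d = true then 16 else 0)
    (by simp) (fun a ha => by
      obtain ⟨d, -, rfl⟩ := List.mem_map.1 ha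
      simp only [hz]
      by_cases hd : isBoth d = true
      · have := hcx d
        simp only [hd, if_true]
        norm_num
        omega
      · simp [hd]) (fun a ha => by
      obtain ⟨d, -, rfl⟩ := List.mem_map.1 ha
      split_ifs <;> norm_num) 0
  rw [mul_zero, add_zero] at hl
  rw [hl, List.zipWith_map, List.zipWith_self]
  congr 1
  refine List.map_congr_left fun d _ => ?_
  simp only [hz]
  by_cases hd : isBoth d = true
  · simp only [hd, if_true]
    have h1 := hle d hd
    have h2 := hcx d
    have key : ∀ v < 32, 16 ≤ v → v &&& 16 = 16 := by decide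
    exact key _ (by omega) (by omega)
  · simp [hd]

/-- The degrees chosen on a side. -/
def sideSum (side : Bool) (sel : List (Bool × List ℕ)) : Multiset ℕ :=
  ((sel.filter fun q => q.1 == side).map fun q => (q.2 : Multiset ℕ)).sum

theorem sideSum_cons (side : Bool) (q : Bool × List ℕ) (sel : List (Bool × List ℕ)) :
    sideSum side (q :: sel) = (if q.1 = side then (q.2 : Multiset ℕ) else 0) + sideSum side sel := by
  by_cases h : q.1 = side <;> simp [sideSum, List.filter_cons, h]

theorem sideSum_perm (side : Bool) {s t : List (Bool × List ℕ)} (h : List.Perm s t) :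
    sideSum side s = sideSum side t :=
  ((h.filter _).map _).sum_eq

theorem le_sideSum (side : Bool) {sel : List (Bool × List ℕ)} {l : List ℕ}
    (h : (side, l) ∈ sel) : (l : Multiset ℕ) ≤ sideSum side sel := by
  induction sel with
  | nil => simp at h
  | cons q sel ih =>
    rw [sideSum_cons]
    rcases List.mem_cons.1 h with rfl | h
    · rw [if_pos rfl]; exact Multiset.le_add_right _ _
    · exact (ih h).trans (Multiset.le_add_left _ _)

/-- A choice is among the candidates. -/
def Chosen (r : Bool × List Blk) (s : Bool × List ℕ) : Prop := r.1 = s.1 ∧ mkBlk s.2 ∈ r.2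

theorem sideCount_eq {rem : List (Bool × List Blk)} {sel : List (Bool × List ℕ)}
    (h : List.Forall₂ Chosen rem sel) (side : Bool) :
    sideCount side rem = (sel.filter fun q => q.1 == side).length := by
  induction h with
  | nil => rfl
  | @cons r s _ _ hrs _ ih =>
    rw [List.filter_cons, ← hrs.1]
    show (bif (r.1 == side) then _ + 1 else _) = _
    cases r.1 == side <;> simp [sideCount, ← ih]

theorem eq_sideSum_of_count_one {side : Bool} {sel : List (Bool × List ℕ)} {l : List ℕ}
    (h : (sel.filter fun q => q.1 == side).length = 1) (hl : (side, l) ∈ sel) :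
    sideSum side sel = (l : Multiset ℕ) := by
  obtain ⟨q, hq⟩ := List.length_eq_one_iff.1 h
  have : (side, l) ∈ sel.filter fun q => q.1 == side := List.mem_filter.2 ⟨hl, by simp⟩
  rw [hq, List.mem_singleton] at this
  rw [sideSum, hq, ← this]
  simp

theorem mem_keep {P : Blk → Bool} {b : Blk} {c : List Blk} (hb : b ∈ c) (hP : P b = true) :
    b ∈ keep P c := by
  induction c with
  | nil => simp at hb
  | cons a c ih =>
    show b ∈ (bif P a then a :: keep P c else keep P c)
    rcases List.mem_cons.1 hb with rfl | hb
    · simp [hP]
    · cases P a <;> simp [ih hb]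

theorem allB_spec {P : Blk → Bool} {c : List Blk} (h : allB P c = true) {b : Blk} (hb : b ∈ c) :
    P b = true := by
  induction c with
  | nil => simp at hb
  | cons a c ih =>
    have h' : (P a && allB P c) = true := h
    rw [Bool.and_eq_true] at h'
    rcases List.mem_cons.1 hb with rfl | hb
    · exact h'.1
    · exact ih h'.2 hb

theorem someEmpty_false {rem : List (Bool × List Blk)} (h : ∀ r ∈ rem, r.2 ≠ []) :
    someEmpty rem = false := by
  induction rem with
  | nil => rfl
  | cons a rem ih =>
    show (a.2.isEmpty || someEmpty rem) = false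
    rw [ih fun r hr => h r (List.mem_cons_of_mem _ hr)]
    simpa using h a (by simp)

theorem pickMin_perm {rem : List (Bool × List Blk)} (h : rem ≠ []) :
    List.Perm ((pickMin rem).1 :: (pickMin rem).2) rem := by
  induction rem with
  | nil => exact absurd rfl h
  | cons a rem ih =>
    show List.Perm ((bif rem.isEmpty then (a, []) else
      bif Nat.ble (len a.2) (len (pickMin rem).1.2) then (a, rem)
        else ((pickMin rem).1, a :: (pickMin rem).2)).1 :: (bif rem.isEmpty then (a, []) else
      bif Nat.ble (len a.2) (len (pickMin rem).1.2) then (a, rem)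
        else ((pickMin rem).1, a :: (pickMin rem).2)).2) (a :: rem)
    by_cases he : rem = []
    · subst he; simp
    · have : rem.isEmpty = false := by simpa using he
      rw [this]
      cases Nat.ble (len a.2) (len (pickMin rem).1.2)
      · exact (List.Perm.swap a _ _).trans ((ih he).cons a)
      · exact List.Perm.refl _

/-- Soundness of the search. -/
theorem go_sound {leaf : ℕ → ℕ → Bool} {caps : ℕ} {FT ST : Multiset ℕ}
    (hFb : ∀ d ∈ FT, d ∈ base) (hSb : ∀ d ∈ ST, d ∈ base)
    (hFc : ∀ d, FT.count d < 16) (hSc : ∀ d, ST.count d < 16)
    (hboth : ∀ d, isBoth d = true → FT.count d = ST.count d)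
    (hgood : ∀ m ≤ FT ∪ ST, wGood (caps + featSum m) = true) :
    ∀ (fuel : ℕ) (rem : List (Bool × List Blk)) (sel : List (Bool × List ℕ)) (a b : Multiset ℕ),
      List.Forall₂ Chosen rem sel → rem.length ≤ fuel →
      a + sideSum true sel = FT → b + sideSum false sel = ST →
      go leaf fuel rem (caps + featSum (a ∪ b)) (code a) (code b) (codeB a) (codeB b) = true →
      leaf (code FT) (code ST) = true := by
  intro fuel
  have base_case : ∀ (a b : Multiset ℕ), a + sideSum true [] = FT → b + sideSum false [] = ST →
      (bif Nat.beq (codeB a) (codeB b) then leaf (code a) (code b) else true) = true →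
      leaf (code FT) (code ST) = true := by
    intro a b ha hb h
    simp only [sideSum, List.filter_nil, List.map_nil, List.sum_nil, add_zero] at ha hb
    subst ha hb
    have e : codeB a = codeB b := by
      rw [codeB, codeB, code_eq (fun d hd => hFb d (Multiset.mem_filter.1 hd).1),
        code_eq (fun d hd => hSb d (Multiset.mem_filter.1 hd).1)]
      congr 1
      refine List.map_congr_left fun d _ => ?_
      simp only [Multiset.count_filter]
      by_cases hd : isBoth d = true
      · simp [hd, hboth d hd]
      · simp [hd]
    rwa [e, show Nat.beq (codeB b) (codeB b) = true by rw [Nat.beq_eq], cond_true] at h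
  induction fuel with
  | zero =>
    intro rem sel a b hf hlen ha hb h
    obtain rfl : rem = [] := List.eq_nil_of_length_eq_zero (by omega)
    cases hf
    exact base_case a b ha hb (by simpa [go] using h)
  | succ fuel ih =>
    intro rem sel a b hf hlen ha hb h
    by_cases hrem : rem = []
    · subst hrem
      cases hf
      exact base_case a b ha hb h
    have hne : rem.isEmpty = false := by simpa using hrem
    have hab : a ≤ FT := ha ▸ Multiset.le_add_right _ _
    have hbb : b ≤ ST := hb ▸ Multiset.le_add_right _ _
    have h32a : ∀ x, a.count x < 32 := fun x =>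
      lt_of_le_of_lt (Multiset.count_le_of_le x hab) ((hFc x).trans (by norm_num))
    have h32b : ∀ x, b.count x < 32 := fun x =>
      lt_of_le_of_lt (Multiset.count_le_of_le x hbb) ((hSc x).trans (by norm_num))
    have hba : ∀ d ∈ a, d ∈ base := fun d hd => hFb d (Multiset.mem_of_le hab hd)
    have hbb' : ∀ d ∈ b, d ∈ base := fun d hd => hSb d (Multiset.mem_of_le hbb hd)
    have hleT : ∀ l, (true, l) ∈ sel → (l : Multiset ℕ) + a ≤ FT := fun l hl => by
      rw [← ha, add_comm]; exact add_le_add le_rfl (le_sideSum true hl)
    have hleS : ∀ l, (false, l) ∈ sel → (l : Multiset ℕ) + b ≤ ST := fun l hl => by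
      rw [← hb, add_comm]; exact add_le_add le_rfl (le_sideSum false hl)
    have hT : ∀ l, (true, l) ∈ sel →
        addEls (mkBlk l).2 (code b) (code a) (caps + featSum (a ∪ b)) =
          (caps + featSum (((l : Multiset ℕ) + a) ∪ b), code ((l : Multiset ℕ) + a)) := fun l hl =>
      addEls_spec l b caps (fun d hd => hFb d (Multiset.mem_of_le (hleT l hl) (by simp [hd]))) hbb'
        h32b a hba fun x =>
        lt_of_le_of_lt (Multiset.count_le_of_le x (hleT l hl)) ((hFc x).trans (by norm_num))
    have hS : ∀ l, (false, l) ∈ sel →
        addEls (mkBlk l).2 (code a) (code b) (caps + featSum (a ∪ b)) =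
          (caps + featSum (a ∪ ((l : Multiset ℕ) + b)), code ((l : Multiset ℕ) + b)) := fun l hl => by
      rw [Multiset.union_comm a b, Multiset.union_comm a ((l : Multiset ℕ) + b)]
      exact addEls_spec l a caps (fun d hd => hSb d (Multiset.mem_of_le (hleS l hl) (by simp [hd]))) hba
        h32a b hbb' fun x =>
        lt_of_le_of_lt (Multiset.count_le_of_le x (hleS l hl)) ((hSc x).trans (by norm_num))
    set W := caps + featSum (a ∪ b) with hW
    have hkeep : ∀ r s, r ∈ rem → Chosen r s → s ∈ sel →
        Chosen (bif r.1 then (true, keep (fun x => fits (Nat.beq (sideCount true rem) 1) x W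
            (code a) (code b) (codeB a) (codeB b)) r.2)
          else (false, keep (fun x => fits (Nat.beq (sideCount false rem) 1) x W
            (code b) (code a) (codeB b) (codeB a)) r.2)) s := by
      intro r s _ hrs hs
      obtain ⟨side, l⟩ := s
      obtain ⟨hside, hmem⟩ := hrs
      simp only at hside hmem
      rw [hside]
      cases side
      · refine ⟨rfl, mem_keep hmem ?_⟩
        rw [fits, Bool.and_eq_true]
        refine ⟨?_, ?_⟩
        · by_cases hlast : Nat.beq (sideCount false rem) 1 = true
          · rw [hlast, cond_true, Nat.beq_eq]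
            have h1 := eq_sideSum_of_count_one ((sideCount_eq hf false).symm.trans
              (Nat.eq_of_beq_eq_true hlast)) hs
            rw [h1] at hb
            rw [show (mkBlk l).1 = codeB (l : Multiset ℕ) from rfl, ← codeB_add, hb]
            exact need_ok hSb hba hSc fun d hd =>
              (hboth d hd) ▸ Multiset.count_le_of_le d hab
          · rw [Bool.eq_false_iff.2 hlast, cond_false]
        · rw [hS l hs]
          exact hgood _ (Multiset.union_le
            (hab.trans Multiset.le_union_left) ((hleS l hs).trans Multiset.le_union_right))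
      · refine ⟨rfl, mem_keep hmem ?_⟩
        rw [fits, Bool.and_eq_true]
        refine ⟨?_, ?_⟩
        · by_cases hlast : Nat.beq (sideCount true rem) 1 = true
          · rw [hlast, cond_true, Nat.beq_eq]
            have h1 := eq_sideSum_of_count_one ((sideCount_eq hf true).symm.trans
              (Nat.eq_of_beq_eq_true hlast)) hs
            rw [h1] at ha
            rw [show (mkBlk l).1 = codeB (l : Multiset ℕ) from rfl, ← codeB_add, ha]
            exact need_ok hFb hbb' hFc fun d hd =>
              (hboth d hd).symm ▸ Multiset.count_le_of_le d hbb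
          · rw [Bool.eq_false_iff.2 hlast, cond_false]
        · rw [hT l hs]
          exact hgood _ (Multiset.union_le
            ((hleT l hs).trans Multiset.le_union_left) (hbb.trans Multiset.le_union_right))
    have hnew : List.Forall₂ Chosen (keepAll rem W (code a) (code b) (codeB a) (codeB b) rem) sel := by
      have : ∀ (r : List (Bool × List Blk)) (s : List (Bool × List ℕ)), List.Forall₂ Chosen r s →
          (∀ x ∈ r, x ∈ rem) → (∀ x ∈ s, x ∈ sel) →
          List.Forall₂ Chosen (keepAll rem W (code a) (code b) (codeB a) (codeB b) r) s := by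
        intro r s hrs
        induction hrs with
        | nil => intro _ _; exact List.Forall₂.nil
        | @cons x y xs ys hxy _ ih2 =>
          intro h1 h2
          exact List.Forall₂.cons (hkeep x y (h1 x (by simp)) hxy (h2 y (by simp)))
            (ih2 (fun z hz => h1 z (List.mem_cons_of_mem _ hz))
              fun z hz => h2 z (List.mem_cons_of_mem _ hz))
      exact this rem sel hf (fun _ h => h) fun _ h => h
    set new := keepAll rem W (code a) (code b) (codeB a) (codeB b) rem with hnewdef
    have hsome : someEmpty new = false := someEmpty_false fun r hr he => by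
      obtain ⟨i, hi, rfl⟩ := List.getElem_of_mem hr
      have := (List.forall₂_iff_get.1 hnew).2 i hi ((List.Forall₂.length_eq hnew) ▸ hi)
      rw [Chosen] at this
      simp [he] at this
    have hnn : new ≠ [] := fun e => hrem (List.eq_nil_of_length_eq_zero (by
      rw [hf.length_eq, ← hnew.length_eq, e, List.length_nil]))
    change (bif rem.isEmpty then _ else bif someEmpty new then true else _) = true at h
    rw [hne, cond_false, hsome, cond_false] at h
    obtain ⟨sel', hsel', hperm⟩ := List.perm_comp_forall₂ (pickMin_perm hnn) hnew
    obtain ⟨hd, hrest⟩ : ∃ hd rest, sel' = hd :: rest := by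
      cases hsel' with
      | cons _ _ => exact ⟨_, _, rfl⟩
    obtain ⟨rest, rfl⟩ := hrest
    obtain ⟨hchosen, hrest⟩ := List.forall₂_cons.1 hsel'
    obtain ⟨side, l⟩ := hd
    obtain ⟨hside, hmem⟩ := hchosen
    simp only at hside hmem
    have hb' := allB_spec h hmem
    have hin : (side, l) ∈ sel := hperm.subset (by simp)
    have hlen' : (pickMin new).2.length ≤ fuel := by
      have := (pickMin_perm hnn).length_eq
      rw [List.length_cons, hnew.length_eq, ← hf.length_eq] at this
      omega
    have hsT := sideSum_perm true hperm
    have hsF := sideSum_perm false hperm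
    rw [sideSum_cons] at hsT hsF
    rw [hside] at hb'
    cases side
    · simp only [cond_false] at hb'
      rw [hS l hin, show (mkBlk l).1 = codeB (l : Multiset ℕ) from rfl, ← codeB_add,
        add_comm b] at hb'
      simp only [reduceCtorEq, if_false, zero_add, if_true] at hsT hsF
      refine ih _ rest a ((l : Multiset ℕ) + b) hrest hlen' (by rw [hsT]; exact ha) ?_ hb'
      rw [← hb, ← hsF]
      abel
    · simp only [cond_true] at hb'
      rw [hT l hin, show (mkBlk l).1 = codeB (l : Multiset ℕ) from rfl, ← codeB_add,
        add_comm a] at hb'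
      simp only [reduceCtorEq, if_false, zero_add, if_true] at hsT hsF
      refine ih _ rest ((l : Multiset ℕ) + a) b hrest hlen' ?_ (by rw [hsF]; exact hb) hb'
      rw [← ha, ← hsT]
      abel

end CfsgLib.Char.MTwentyFourOrder
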