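import Cfsg.Agent.Lib.Char.MTwentyFourOrder.Phase.Candidates
import Cfsg.Agent.Lib.Char.MTwentyFourOrder.Phase.Leaf
import Cfsg.Agent.Lib.Char.MTwentyFourOrder.Phase.Search

/-!
# Simple groups of order 244823040: the run of the search with both linear characters fixed

The two blocks at five of the non-trivial linear characters have the same degrees.
-/

set_option autoImplicit false
set_option maxRecDepth 100000
set_option maxHeartbeats 4000000
set_option Elab.async false

namespace CfsgLib.Char.MTwentyFourOrder

/-- The caps on the counts. -/
def capsFixed : List ℕ := [15, 5, 8, 3, 4, 13, 11]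

/-- The lists to choose from. -/
def remFixed : List (Bool × List Blk) :=
  [(true, fiveP.map mkBlk), (true, fiveThree.map mkBlk), (true, fiveTwin.map mkBlk),
    (false, sevenP.map mkBlk), (false, sevenOne.map mkBlk), (false, sevenTwo.map mkBlk)]

theorem run_fixed : go leaf 6 remFixed (featOff capsFixed) 0 0 0 0 = true := by decide +kernel

end CfsgLib.Char.MTwentyFourOrder
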