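import Cfsg.Agent.Lib.Char.MTwentyFourOrder.Phase.Run
import Cfsg.Agent.Lib.Char.MTwentyFourOrder.Phase.RunFixed

/-!
# Simple groups of order 244823040: the possible multisets of degrees
-/

set_option autoImplicit false
set_option maxRecDepth 100000

namespace CfsgLib.Char.MTwentyFourOrder

/-- The conditions on all the degrees outside five and seven. -/
structure DegData (A : Multiset ℕ) : Prop where
  mem_base : ∀ d ∈ A, d ∈ base
  sq_sum : (A.map fun d => d * d).sum = 244823040
  count_big : A.countP (fun d => d % 23 ≠ 0) = 13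
  count_eleven : A.countP (fun d => d % 11 ≠ 0) = 11
  sum_eleven : (A.map sgnEleven).sum = 0
  exc_card : A.countP (fun d => isExc d = true) = 2
  exc_twice : ∃ d ∈ A, isExc d = true ∧ A.count d = 2
  rel_big : (A.map relBig).sum = 0

theorem zip_map_sum {R : Type*} [CommSemiring R] : ∀ (bs : List ℕ), bs.Nodup → ∀ (A : Multiset ℕ),
    (∀ d ∈ A, d ∈ bs) → ∀ f : ℕ → R,
      (List.zipWith (fun d c => f d * (c : R)) bs (bs.map fun b => A.count b)).sum = (A.map f).sum := by
  intro bs
  induction bs with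
  | nil =>
    intro _ A hA f
    obtain rfl : A = 0 := Multiset.eq_zero_of_forall_notMem fun d hd => by simpa using hA d hd
    simp
  | cons a bs ih =>
    intro hnd A hA f
    obtain ⟨ha, hnd⟩ := List.nodup_cons.1 hnd
    have hne : ∀ d ∈ A.filter (fun d => ¬ d = a), d ∈ bs := fun d hd => by
      obtain ⟨hd, hda⟩ := Multiset.mem_filter.1 hd
      simpa [hda] using hA d hd
    conv_rhs => rw [← Multiset.filter_add_not (fun d => d = a) A]
    rw [Multiset.map_add, Multiset.sum_add, List.map_cons, List.zipWith_cons_cons, List.sum_cons,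
      ← ih hnd _ hne f]
    congr 1
    · rw [Multiset.filter_eq' A a, Multiset.map_replicate, Multiset.sum_replicate, nsmul_eq_mul,
        mul_comm]
    · congr 2
      refine List.map_congr_left fun b hb => ?_
      rw [Multiset.count_filter, if_pos (fun e : b = a => ha (e ▸ hb))]

theorem wsum_count {A : Multiset ℕ} (hA : ∀ d ∈ A, d ∈ base) (f : ℕ → ℤ) :
    wsum f (base.map fun b => A.count b) = (A.map f).sum :=
  zip_map_sum base base_nodup A hA f

theorem nsum_count {A : Multiset ℕ} (hA : ∀ d ∈ A, d ∈ base) (f : ℕ → ℕ) :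
    nsum f (base.map fun b => A.count b) = (A.map f).sum :=
  zip_map_sum base base_nodup A hA f

theorem sum_toNat (A : Multiset ℕ) (P : ℕ → Bool) :
    (A.map fun d => (P d).toNat).sum = A.countP (fun d => P d = true) := by
  induction A using Multiset.induction_on with
  | empty => simp
  | cons a A ih =>
    rw [Multiset.map_cons, Multiset.sum_cons, Multiset.countP_cons, ih]
    cases h : P a <;> simp <;> ring

theorem DegData.sideOK {A : Multiset ℕ} (h : DegData A) :
    sideOK (base.map fun b => A.count b) = true := by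
  simp only [MTwentyFourOrder.sideOK, Bool.and_eq_true, beq_iff_eq]
  refine ⟨⟨⟨?_, ?_⟩, ?_⟩, ?_⟩
  · rw [wsum_count h.mem_base, h.sum_eleven]
  · rw [nsum_count h.mem_base, sum_toNat, h.exc_card]
  · obtain ⟨d, hd, he, hc⟩ := h.exc_twice
    rw [List.zipWith_map_right, List.zipWith_self, List.any_map, List.any_eq_true]
    exact ⟨d, h.mem_base d hd, by simp [he, hc]⟩
  · rw [wsum_count h.mem_base, h.rel_big]

/-- The degrees prime to five or to seven, as a union. -/
theorem union_filter (A : Multiset ℕ) :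
    A.filter (fun d => ¬ 5 ∣ d) ∪ A.filter (fun d => ¬ 7 ∣ d) = A.filter (fun d => ¬ 35 ∣ d) := by
  ext x
  simp only [Multiset.count_union, Multiset.count_filter]
  have h35 : 35 ∣ x ↔ 5 ∣ x ∧ 7 ∣ x := by omega
  by_cases h5 : 5 ∣ x <;> by_cases h7 : 7 ∣ x <;> simp [h5, h7, h35]

theorem counts_code {X Y : Multiset ℕ} (hX : ∀ d ∈ X, d ∈ base) (hY : ∀ d ∈ Y, d ∈ base)
    (cX : ∀ d, X.count d < 32) (cY : ∀ d, Y.count d < 32) :
    counts (code X) (code Y) = base.map fun b => (X ∪ Y).count b := by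
  refine List.ext_getElem (by simp [counts]) fun i h1 h2 => ?_
  have hi : i < base.length := by simpa [counts] using h1
  have e : sh base[i] = 5 * i := by rw [sh, base_nodup.idxOf_getElem i hi]
  simp only [counts, List.getElem_map, List.getElem_range, Multiset.count_union, ← e,
    fld_code hX cX (List.getElem_mem hi), fld_code hY cY (List.getElem_mem hi)]

theorem mult_thirtyFive : ∀ d ∈ base, 35 ∣ d →
    d ∈ [770, 1540, 4830, 8855, 10395, 12880] := by decide +kernel

/-- The multiples of 35 by multiplicity. -/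
theorem split_thirtyFive {A : Multiset ℕ} (hA : ∀ d ∈ A, d ∈ base) :
    A = A.filter (fun d => ¬ 35 ∣ d) + (Multiset.replicate (A.count 770) 770 +
      Multiset.replicate (A.count 1540) 1540 + Multiset.replicate (A.count 4830) 4830 +
      Multiset.replicate (A.count 8855) 8855 + Multiset.replicate (A.count 10395) 10395 +
      Multiset.replicate (A.count 12880) 12880) := by
  ext x
  simp only [Multiset.count_add, Multiset.count_replicate, Multiset.count_filter]
  by_cases hx : x ∈ A
  · by_cases h35 : 35 ∣ x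
    · have := mult_thirtyFive x (hA x hx) h35
      simp only [List.mem_cons, List.not_mem_nil, or_false] at this
      rcases this with rfl | rfl | rfl | rfl | rfl | rfl <;> norm_num
    · rw [if_pos h35]
      have : ∀ v : ℕ, 35 ∣ v → (if v = x then A.count v else 0) = 0 := fun v hv =>
        if_neg fun e : v = x => h35 (e ▸ hv)
      simp [this 770 (by norm_num), this 1540 (by norm_num), this 4830 (by norm_num),
        this 8855 (by norm_num), this 10395 (by norm_num), this 12880 (by norm_num)]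
  · rw [Multiset.count_eq_zero_of_notMem hx]
    simp only [ite_self, zero_add]
    have : ∀ v : ℕ, (if v = x then A.count v else 0) = 0 := fun v => by
      split_ifs with e
      · rw [e, Multiset.count_eq_zero_of_notMem hx]
      · rfl
    simp [this]

theorem fill_eq {A : Multiset ℕ} (hA : ∀ d ∈ A, d ∈ base) :
    fill (base.map fun b => (A.filter (fun d => ¬ 35 ∣ d)).count b) (A.count 770) (A.count 1540)
      (A.count 4830) (A.count 8855) (A.count 10395) (A.count 12880) =
      base.map fun b => A.count b := by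
  rw [fill, List.zipWith_map_right, List.zipWith_self]
  refine List.map_congr_left fun b hb => ?_
  rw [Multiset.count_filter]
  by_cases h35 : 35 ∣ b
  · have := mult_thirtyFive b hb h35
    simp only [List.mem_cons, List.not_mem_nil, or_false] at this
    rcases this with rfl | rfl | rfl | rfl | rfl | rfl <;> norm_num
  · rw [if_pos h35, if_neg, if_neg, if_neg, if_neg, if_neg, if_neg, add_zero] <;>
      (intro e; subst e; norm_num at h35)

theorem finalCounts_spec {A : Multiset ℕ} (hA : ∀ d ∈ A, d ∈ base)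
    (h : (base.map fun b => A.count b) ∈ finalCounts) : ∃ l ∈ finals, A = (l : Multiset ℕ) := by
  obtain ⟨l, hl, he⟩ := List.mem_map.1 h
  refine ⟨l, hl, Multiset.ext.2 fun x => ?_⟩
  rw [Multiset.coe_count]
  by_cases hx : x ∈ base
  · exact (List.map_inj_left.1 he x hx).symm
  · have hlb : ∀ l ∈ finals, ∀ d ∈ l, d ∈ base := by decide +kernel
    rw [Multiset.count_eq_zero_of_notMem fun h => hx (hA x h),
      List.count_eq_zero_of_not_mem fun h => hx (hlb l hl x h)]

/-- The caps and the finals from a successful search. -/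
theorem finals_of_go {A : Multiset ℕ} (h : DegData A) {c0 c1 c2 c3 c4 : ℕ}
    (hc : c0 ≤ 15 ∧ c1 ≤ 15 ∧ c2 ≤ 15 ∧ c3 ≤ 15 ∧ c4 ≤ 15)
    (n0 : A.countP (fun d => d % 5 ∈ [1, 4]) = c0) (n1 : A.countP (fun d => d % 5 ∈ [2, 3]) = c1)
    (n2 : A.countP (fun d => d % 7 ∈ [1, 6]) = c2) (n3 : A.countP (fun d => d % 7 ∈ [2, 5]) = c3)
    (n4 : A.countP (fun d => d % 7 ∈ [3, 4]) = c4) {rem : List (Bool × List Blk)}
    {sel : List (Bool × List ℕ)} (hlen : rem.length ≤ 6) (hf : List.Forall₂ Chosen rem sel)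
    (hT : sideSum true sel = A.filter (fun d => ¬ 5 ∣ d))
    (hS : sideSum false sel = A.filter (fun d => ¬ 7 ∣ d))
    (hgo : go leaf 6 rem (featOff [c0, c1, c2, c3, c4, 13, 11]) 0 0 0 0 = true) :
    ∃ l ∈ finals, A = (l : Multiset ℕ) := by
  set FT := A.filter (fun d => ¬ 5 ∣ d) with hFT
  set ST := A.filter (fun d => ¬ 7 ∣ d) with hST
  have cle : ∀ d, FT.count d < 16 ∧ ST.count d < 16 := by
    intro d
    have hsub : ∀ (P : ℕ → Prop) [DecidablePred P], P d → A.count d ≤ A.countP P := fun P _ hP => by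
      rw [Multiset.countP_eq_card_filter]
      refine le_trans ?_ (Multiset.count_le_card d _)
      rw [Multiset.count_filter, if_pos hP]
    constructor <;> simp only [hFT, hST, Multiset.count_filter] <;> split_ifs with hd
    · omega
    · rcases (show (d % 5 = 1 ∨ d % 5 = 4) ∨ (d % 5 = 2 ∨ d % 5 = 3) by omega) with e | e
      · have := hsub (fun d => d % 5 ∈ [1, 4]) (by simpa using e)
        omega
      · have := hsub (fun d => d % 5 ∈ [2, 3]) (by simpa using e)
        omega
    · omega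
    · rcases (show (d % 7 = 1 ∨ d % 7 = 6) ∨ (d % 7 = 2 ∨ d % 7 = 5) ∨ (d % 7 = 3 ∨ d % 7 = 4) by omega)
        with e | e | e
      · have := hsub (fun d => d % 7 ∈ [1, 6]) (by simpa using e)
        omega
      · have := hsub (fun d => d % 7 ∈ [2, 5]) (by simpa using e)
        omega
      · have := hsub (fun d => d % 7 ∈ [3, 4]) (by simpa using e)
        omega
  have hFb : ∀ d ∈ FT, d ∈ base := fun d hd => h.mem_base d (Multiset.mem_filter.1 hd).1
  have hSb : ∀ d ∈ ST, d ∈ base := fun d hd => h.mem_base d (Multiset.mem_filter.1 hd).1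
  have hU : FT ∪ ST = A.filter (fun d => ¬ 35 ∣ d) := union_filter A
  have hUA : FT ∪ ST ≤ A := hU ▸ Multiset.filter_le _ _
  have hl := go_sound (leaf := leaf) (caps := featOff [c0, c1, c2, c3, c4, 13, 11]) hFb hSb
    (fun d => (cle d).1) (fun d => (cle d).2) (fun d hd => by
      simp only [isBoth, Bool.and_eq_true, bne_iff_ne, ne_eq] at hd
      rw [hFT, hST, Multiset.count_filter, Multiset.count_filter, if_pos (by omega),
        if_pos (by omega)])
    (fun m hm => wGood_of _ rfl
      (by simp only [List.mem_cons, List.not_mem_nil, or_false, forall_eq_or_imp, forall_eq]; omega) m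
      (le_of_le_of_eq (Multiset.countP_le_of_le _ (hm.trans hUA)) n0)
      (le_of_le_of_eq (Multiset.countP_le_of_le _ (hm.trans hUA)) n1)
      (le_of_le_of_eq (Multiset.countP_le_of_le _ (hm.trans hUA)) n2)
      (le_of_le_of_eq (Multiset.countP_le_of_le _ (hm.trans hUA)) n3)
      (le_of_le_of_eq (Multiset.countP_le_of_le _ (hm.trans hUA)) n4)
      (le_of_le_of_eq (Multiset.countP_le_of_le _ (hm.trans hUA)) h.count_big)
      (le_of_le_of_eq (Multiset.countP_le_of_le _ (hm.trans hUA)) h.count_eleven)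
      (by
        obtain ⟨w, hw⟩ := Multiset.le_iff_exists_add.1 (hm.trans hUA)
        rw [← h.sq_sum, hw, Multiset.map_add, Multiset.sum_add]
        exact Nat.le_add_right _ _))
    6 rem sel 0 0 hf hlen (by rw [zero_add, hT]) (by rw [zero_add, hS])
    (by simpa [code, codeB, featSum] using hgo)
  rw [leaf, counts_code hFb hSb (fun d => (cle d).1.trans (by norm_num))
    (fun d => (cle d).2.trans (by norm_num)), hU] at hl
  set B := A.filter (fun d => ¬ 35 ∣ d) with hB
  have hBb : ∀ d ∈ B, d ∈ base := fun d hd => h.mem_base d (Multiset.mem_filter.1 hd).1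
  have hsplit := split_thirtyFive h.mem_base
  rw [← hB] at hsplit
  have hs : ∀ f : ℕ → ℕ, (A.map f).sum = nsum f (base.map fun b => B.count b) +
      A.count 770 * f 770 + A.count 1540 * f 1540 + A.count 4830 * f 4830 +
      A.count 8855 * f 8855 + A.count 10395 * f 10395 + A.count 12880 * f 12880 := fun f => by
    conv_lhs => rw [hsplit]
    simp only [Multiset.map_add, Multiset.sum_add, Multiset.map_replicate, Multiset.sum_replicate,
      smul_eq_mul, nsum_count hBb]
    ring
  have r1 := hs fun d => (d % 23 != 0).toNat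
  have r2 := hs fun d => (d % 11 != 0).toNat
  have r3 := hs fun d => d * d
  rw [sum_toNat, show A.countP (fun d => (d % 23 != 0) = true) = 13 by
    simpa using h.count_big] at r1
  rw [sum_toNat, show A.countP (fun d => (d % 11 != 0) = true) = 11 by
    simpa using h.count_eleven] at r2
  rw [h.sq_sum] at r3
  have hb : ∀ n : ℕ, n ≠ 0 → (n != 0).toNat = 1 := fun n hn => by simp [hn]
  norm_num at r1 r2 r3
  rw [hb 11 (by norm_num), hb 22 (by norm_num)] at r1
  rw [hb 1 (by norm_num), hb 10 (by norm_num)] at r2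
  refine finalCounts_spec h.mem_base ?_
  rw [← fill_eq h.mem_base]
  exact leafCounts_sound hl (by norm_num; omega) (by norm_num; omega) (by norm_num; omega) (by rw [fill_eq h.mem_base]; exact h.sideOK)

theorem exists_chosen_map {lit : List (List ℕ)} {l : List ℕ} (side : Bool) (h : l ∈ lit) :
    Chosen (side, lit.map mkBlk) (side, l) :=
  ⟨rfl, List.mem_map.2 ⟨l, h, rfl⟩⟩

/-- The degree lists when the two nontrivial linear characters at five are conjugate in the normalizer. -/
theorem finals_swap {A : Multiset ℕ} (h : DegData A) {P T U Q R S : List ℕ} (hP : P ∈ fiveP)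
    (hT : T ∈ fiveTwo) (hU : U ∈ fiveThree) (hQ : Q ∈ sevenP) (hR : R ∈ sevenOne)
    (hS : S ∈ sevenTwo)
    (e5 : A.filter (fun d => ¬ 5 ∣ d) = (P : Multiset ℕ) + T + U)
    (e7 : A.filter (fun d => ¬ 7 ∣ d) = (Q : Multiset ℕ) + R + S) :
    ∃ l ∈ finals, A = (l : Multiset ℕ) := by
  have c5 : (∀ l ∈ fiveP, l.countP (fun d => d % 5 ∈ [1, 4]) = 5 ∧ l.countP (fun d => d % 5 ∈ [2, 3]) = 0) ∧
      (∀ l ∈ fiveTwo, l.countP (fun d => d % 5 ∈ [1, 4]) = 2 ∧ l.countP (fun d => d % 5 ∈ [2, 3]) = 2) ∧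
      (∀ l ∈ fiveThree, l.countP (fun d => d % 5 ∈ [1, 4]) = 0 ∧ l.countP (fun d => d % 5 ∈ [2, 3]) = 5) := by
    decide +kernel
  have c7 : (∀ l ∈ sevenP ++ sevenOne, l.countP (fun d => d % 7 ∈ [1, 6]) = 3 ∧
      l.countP (fun d => d % 7 ∈ [2, 5]) = 0 ∧ l.countP (fun d => d % 7 ∈ [3, 4]) = 2) ∧
      (∀ l ∈ sevenTwo, l.countP (fun d => d % 7 ∈ [1, 6]) = 2 ∧
      l.countP (fun d => d % 7 ∈ [2, 5]) = 3 ∧ l.countP (fun d => d % 7 ∈ [3, 4]) = 0) := by
    decide +kernel
  have key : ∀ (Pr : ℕ → Prop) [DecidablePred Pr] (p : ℕ) (X Y Z : List ℕ),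
      (∀ d, Pr d → ¬ p ∣ d) → A.filter (fun d => ¬ p ∣ d) = (X : Multiset ℕ) + Y + Z →
      A.countP Pr = X.countP Pr + Y.countP Pr + Z.countP Pr := by
    intro Pr _ p X Y Z hPr e
    rw [← Multiset.coe_countP, ← Multiset.coe_countP, ← Multiset.coe_countP, ← Multiset.countP_add,
      ← Multiset.countP_add, ← e, Multiset.countP_filter]
    exact Multiset.countP_congr rfl fun d _ => propext ⟨fun hd => ⟨hd, hPr d hd⟩, And.left⟩
  refine finals_of_go h (c0 := 7) (c1 := 7) (c2 := 8) (c3 := 3) (c4 := 4) (by norm_num) ?_ ?_ ?_ ?_ ?_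
    (sel := [(true, P), (true, T), (true, U), (false, Q), (false, R), (false, S)])
    (rem := remSwap Q) (by simp [remSwap]) ?_ ?_ ?_ (run_swap hQ)
  · rw [key _ 5 P T U (fun d hd => by simp at hd; omega) e5, (c5.1 P hP).1, (c5.2.1 T hT).1, (c5.2.2 U hU).1]
  · rw [key _ 5 P T U (fun d hd => by simp at hd; omega) e5, (c5.1 P hP).2, (c5.2.1 T hT).2, (c5.2.2 U hU).2]
  · rw [key _ 7 Q R S (fun d hd => by simp at hd; omega) e7, (c7.1 Q (by simp [hQ])).1,
      (c7.1 R (by simp [hR])).1, (c7.2 S hS).1]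
  · rw [key _ 7 Q R S (fun d hd => by simp at hd; omega) e7, (c7.1 Q (by simp [hQ])).2.1,
      (c7.1 R (by simp [hR])).2.1, (c7.2 S hS).2.1]
  · rw [key _ 7 Q R S (fun d hd => by simp at hd; omega) e7, (c7.1 Q (by simp [hQ])).2.2,
      (c7.1 R (by simp [hR])).2.2, (c7.2 S hS).2.2]
  · simp only [remSwap, List.forall₂_cons, List.forall₂_nil_left_iff, and_true]
    exact ⟨exists_chosen_map _ hP, exists_chosen_map _ hT, exists_chosen_map _ hU,
      ⟨rfl, List.mem_singleton.2 rfl⟩, exists_chosen_map _ hR, exists_chosen_map _ hS⟩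
  · rw [e5]; simp [sideSum]
  · rw [e7]; simp [sideSum]

/-- The degree lists when both nontrivial linear characters at five are fixed. -/
theorem finals_fixed {A : Multiset ℕ} (h : DegData A) {P U W Q R S : List ℕ} (hP : P ∈ fiveP)
    (hU : U ∈ fiveThree) (hW : W ∈ fiveTwin) (hQ : Q ∈ sevenP) (hR : R ∈ sevenOne)
    (hS : S ∈ sevenTwo)
    (e5 : A.filter (fun d => ¬ 5 ∣ d) = (P : Multiset ℕ) + U + W)
    (e7 : A.filter (fun d => ¬ 7 ∣ d) = (Q : Multiset ℕ) + R + S) :
    ∃ l ∈ finals, A = (l : Multiset ℕ) := by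
  have c5 : (∀ l ∈ fiveP, l.countP (fun d => d % 5 ∈ [1, 4]) = 5 ∧ l.countP (fun d => d % 5 ∈ [2, 3]) = 0) ∧
      (∀ l ∈ fiveTwin, l.countP (fun d => d % 5 ∈ [1, 4]) = 10 ∧ l.countP (fun d => d % 5 ∈ [2, 3]) = 0) ∧
      (∀ l ∈ fiveThree, l.countP (fun d => d % 5 ∈ [1, 4]) = 0 ∧ l.countP (fun d => d % 5 ∈ [2, 3]) = 5) := by
    decide +kernel
  have c7 : (∀ l ∈ sevenP ++ sevenOne, l.countP (fun d => d % 7 ∈ [1, 6]) = 3 ∧
      l.countP (fun d => d % 7 ∈ [2, 5]) = 0 ∧ l.countP (fun d => d % 7 ∈ [3, 4]) = 2) ∧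
      (∀ l ∈ sevenTwo, l.countP (fun d => d % 7 ∈ [1, 6]) = 2 ∧
      l.countP (fun d => d % 7 ∈ [2, 5]) = 3 ∧ l.countP (fun d => d % 7 ∈ [3, 4]) = 0) := by
    decide +kernel
  have key : ∀ (Pr : ℕ → Prop) [DecidablePred Pr] (p : ℕ) (X Y Z : List ℕ),
      (∀ d, Pr d → ¬ p ∣ d) → A.filter (fun d => ¬ p ∣ d) = (X : Multiset ℕ) + Y + Z →
      A.countP Pr = X.countP Pr + Y.countP Pr + Z.countP Pr := by
    intro Pr _ p X Y Z hPr e
    rw [← Multiset.coe_countP, ← Multiset.coe_countP, ← Multiset.coe_countP, ← Multiset.countP_add,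
      ← Multiset.countP_add, ← e, Multiset.countP_filter]
    exact Multiset.countP_congr rfl fun d _ => propext ⟨fun hd => ⟨hd, hPr d hd⟩, And.left⟩
  refine finals_of_go h (c0 := 15) (c1 := 5) (c2 := 8) (c3 := 3) (c4 := 4) (by norm_num) ?_ ?_ ?_ ?_ ?_
    (sel := [(true, P), (true, U), (true, W), (false, Q), (false, R), (false, S)])
    (rem := remFixed) (by simp [remFixed]) ?_ ?_ ?_ run_fixed
  · rw [key _ 5 P U W (fun d hd => by simp at hd; omega) e5, (c5.1 P hP).1, (c5.2.1 W hW).1, (c5.2.2 U hU).1]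
  · rw [key _ 5 P U W (fun d hd => by simp at hd; omega) e5, (c5.1 P hP).2, (c5.2.1 W hW).2, (c5.2.2 U hU).2]
  · rw [key _ 7 Q R S (fun d hd => by simp at hd; omega) e7, (c7.1 Q (by simp [hQ])).1,
      (c7.1 R (by simp [hR])).1, (c7.2 S hS).1]
  · rw [key _ 7 Q R S (fun d hd => by simp at hd; omega) e7, (c7.1 Q (by simp [hQ])).2.1,
      (c7.1 R (by simp [hR])).2.1, (c7.2 S hS).2.1]
  · rw [key _ 7 Q R S (fun d hd => by simp at hd; omega) e7, (c7.1 Q (by simp [hQ])).2.2,
      (c7.1 R (by simp [hR])).2.2, (c7.2 S hS).2.2]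
  · simp only [remFixed, List.forall₂_cons, List.forall₂_nil_left_iff, and_true]
    exact ⟨exists_chosen_map _ hP, exists_chosen_map _ hU, exists_chosen_map _ hW,
      exists_chosen_map _ hQ, exists_chosen_map _ hR, exists_chosen_map _ hS⟩
  · rw [e5]; simp [sideSum]
  · rw [e7]; simp [sideSum]

end CfsgLib.Char.MTwentyFourOrder
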