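import Cfsg.Agent.Lib.Char.MTwentyFourOrder.Phase.FiveSeven
import Cfsg.Agent.Lib.Char.MTwentyFourOrder.Phase.Sieve
import Cfsg.Agent.Lib.Char.MTwentyFourOrder.Params
import Cfsg.Agent.Lib.Char.MTwentyFourOrder.Shapes
import Cfsg.Agent.Lib.PGroup.LeastNonPClosed
import Cfsg.Agent.Lib.Block.Local

/-!
# Simple groups of order 244823040: the four possible lists of degrees

The blocks at 23 and 11 give the admissible residues, the blocks at five and seven the lists to
search through.
-/

set_option autoImplicit false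
set_option linter.unusedSectionVars false
set_option linter.style.haveILetI false

open Cfsg CfsgLib.Char CfsgLib.Block CfsgLib.Block.Cyclic
open scoped ComplexConjugate commutatorElement

namespace CfsgLib.Char.MTwentyFourOrder

universe u

variable {G : Type u} [Group G] [Fintype G]

section Setup

variable {p : ℕ} [hp : Fact p.Prime] [DecidableEq G]
  (D : CycSetup p G) [Fintype D.K] [Fintype (Subgroup.centralizer (D.Q : Set G))]

theorem exp_mul_orb (φ : IrrCharacter D.K) {k : ℕ}
    (hN : Nat.card (Subgroup.normalizer (D.Q : Set G)) = k * Nat.card D.C) :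
    D.expCard φ * D.orbSize φ = k := by
  have h := (D.withChar φ).relIndex_mul
  rw [(D.withChar φ).card_expE] at h
  refine h.trans ?_
  have h2 := ((Subgroup.centralizer (D.Q : Set G)).subgroupOf
    (Subgroup.normalizer (D.Q : Set G))).card_mul_index
  rw [Nat.card_congr (Subgroup.subgroupOfEquivOfLe (centralizer_le_normalizer' D.Q)).toEquiv, hN,
    mul_comm k] at h2
  exact Nat.eq_of_mul_eq_mul_left Nat.card_pos h2

theorem orbSize_eq_one (φ : IrrCharacter D.K)
    (h : ∀ φ' : IrrCharacter D.K, (D.withChar φ).InOrbit φ' → φ' = φ) : D.orbSize φ = 1 := by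
  show (D.withChar φ).stab.relIndex _ = 1
  rw [← (D.withChar φ).card_orbit, Nat.card_eq_one_iff_unique]
  refine ⟨⟨fun a b => Subtype.ext ((h _ a.2).trans (h _ b.2).symm)⟩, ⟨⟨φ, 1, one_mem _, ?_⟩⟩⟩
  exact Subtype.ext (funext fun y => congrArg (φ : D.K → ℂ) (Subtype.ext (by
    show (1 : G)⁻¹ * (y : G) * (1 : G)⁻¹⁻¹ = y
    group)))

theorem inOrbit_degree {φ φ' : IrrCharacter D.K} (h : (D.withChar φ).InOrbit φ') :
    charDegree (φ' : D.K → ℂ) = charDegree (φ : D.K → ℂ) := by
  obtain ⟨n, hn, rfl⟩ := h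
  have h1 := (charDegree_eq (conjKChar D.hQ D.hK hn φ)).1
  rw [D.charDegree_conjKChar hn φ, (charDegree_eq φ).1] at h1
  exact_mod_cast h1.symm

theorem inOrbit_one {φ' : IrrCharacter D.K} (h : (D.withChar (oneChar D.K)).InOrbit φ') :
    φ' = oneChar D.K :=
  (D.withChar (oneChar D.K)).inOrbit_eq (fun _ => rfl) h

theorem inOrbit_self (φ : IrrCharacter D.K) : (D.withChar φ).InOrbit φ :=
  ⟨1, one_mem _, Subtype.ext (funext fun y => congrArg (φ : D.K → ℂ) (Subtype.ext (by
    show (1 : G)⁻¹ * (y : G) * (1 : G)⁻¹⁻¹ = y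
    group)))⟩

variable {M : Ideal AlgInt} [M.IsMaximal]

theorem disjoint_section (hM : IsPModular p M) {φ φ' : IrrCharacter D.K}
    (h : ¬ (D.withChar φ).InOrbit φ') : Disjoint (D.sectionSet φ) (D.sectionSet φ') :=
  Set.disjoint_left.2 fun χ h1 h2 => h ((mem_sectionSet_iff D hM h1).1 h2)

/-- Complex conjugation carries the part of a character to the part of its conjugate. -/
theorem mem_section_conj (φ : IrrCharacter D.K) (χ : IrrCharacter G) :
    χ ∈ D.sectionSet (conjChar φ) ↔ conjChar χ ∈ D.sectionSet φ := by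
  have key : ∀ i : ZMod p, secMult (conjChar χ : G → ℂ) (φ : D.K → ℂ) (D.xp i) =
      conj (secMult (χ : G → ℂ) (conjChar φ : D.K → ℂ) (D.xp i)) := by
    intro i
    simp only [secMult, classInner, map_mul, map_inv₀, map_natCast, map_sum, conjChar_apply,
      Complex.conj_conj]
  constructor
  · rintro ⟨i, hi, hne⟩
    exact ⟨i, hi, by rw [key]; simpa using hne⟩
  · rintro ⟨i, hi, hne⟩
    rw [key] at hne
    exact ⟨i, hi, by simpa using hne⟩

/-- A Sylow subgroup of prime order equal to its centralizer. -/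
theorem exists_selfcent (hM : IsPModular p M) {k : ℕ}
    (hC : Nat.card D.C = p) (hN : Nat.card (Subgroup.normalizer (D.Q : Set G)) = k * p) :
    ∃ c : List ℤ, c.length = k ∧ (∀ s ∈ c, (p : ℤ) ∣ s - 1) ∧
      (degs G).filter (fun d => ¬ p ∣ d) =
        ((c.map Int.natAbs ++ List.replicate ((p - 1) / k) c.sum.natAbs : List ℕ) : Multiset ℕ) := by
  have hK : Nat.card D.K = 1 := by
    have h := D.card_C
    rw [hC] at h
    exact (Nat.mul_eq_left hp.out.ne_zero).1 h.symm
  haveI : Subsingleton D.K := (Nat.card_eq_one_iff_unique.1 hK).1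
  have huniq : ∀ φ : IrrCharacter D.K, φ = oneChar D.K := by
    intro φ
    classical
    have := Fintype.ofFinite (IrrCharacter D.K)
    have hs := sum_sq_nat (K := D.K)
    rw [hK, ← Finset.add_sum_erase _ _ (Finset.mem_univ (oneChar D.K)), charDegree_oneChar] at hs
    by_contra hne
    have h1 := Finset.single_le_sum (f := fun χ : IrrCharacter D.K =>
      charDegree (χ : D.K → ℂ) * charDegree (χ : D.K → ℂ)) (fun _ _ => Nat.zero_le _)
      (Finset.mem_erase.2 ⟨hne, Finset.mem_univ φ⟩)
    have h2 := Nat.mul_pos (Nat.pos_of_ne_zero (charDegree_eq φ).2) (Nat.pos_of_ne_zero (charDegree_eq φ).2)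
    omega
  have ho : D.orbSize (oneChar D.K) = 1 := orbSize_eq_one D _ fun φ' _ => huniq φ'
  have he : D.expCard (oneChar D.K) = k := by
    have h := exp_mul_orb D (oneChar D.K) (k := k) (by rw [hN, hC])
    rwa [ho, mul_one] at h
  obtain ⟨c, hlen, hres, hc⟩ := exists_block_list D hM (oneChar D.K) ho he charDegree_oneChar
  refine ⟨c, hlen, fun s hs => by simpa using hres s hs, ?_⟩
  rw [filter_degs, ← hc]
  congr 1
  ext χ
  refine ⟨fun h => ?_, sectionSet_prime D hM⟩
  obtain ⟨φ', hφ'⟩ := exists_sectionSet D hM h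
  exact huniq φ' ▸ hφ'

end Setup

theorem test_range : (List.range 15647).all (fun d => !baseTest d || base.contains d) = true := by
  decide +kernel

theorem mem_base_of_test (d : ℕ) (hd : d < 15647) (h : baseTest d = true) : d ∈ base := by
  simpa [h] using List.all_eq_true.1 test_range d (List.mem_range.2 hd)

theorem res_of_dvd {p : ℕ} {s : ℤ} (h : (p : ℤ) ∣ s - 1) (hp : 2 ≤ p) :
    s.natAbs % p = 1 ∧ 0 ≤ s ∨ s.natAbs % p = p - 1 ∧ s ≤ 0 := by
  obtain ⟨w, hw⟩ := h
  rcases Int.natAbs_eq s with e | e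
  · left
    refine ⟨?_, by omega⟩
    have h0 : ((s.natAbs % p : ℕ) : ℤ) = 1 := by
      rw [Int.natCast_mod, show ((s.natAbs : ℕ) : ℤ) = 1 + (p : ℤ) * w by omega,
        Int.add_mul_emod_self_left]
      exact Int.emod_eq_of_lt (by norm_num) (by omega)
    exact_mod_cast h0
  · right
    refine ⟨?_, by omega⟩
    have h0 : ((s.natAbs % p : ℕ) : ℤ) = (p : ℤ) - 1 := by
      rw [Int.natCast_mod,
        show ((s.natAbs : ℕ) : ℤ) = ((p : ℤ) - 1) + (p : ℤ) * (-w - 1) by linarith,
        Int.add_mul_emod_self_left]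
      exact Int.emod_eq_of_lt (by omega) (by omega)
    omega

theorem dvd_sum_sub {p : ℤ} {r : ℤ} : ∀ c : List ℤ, (∀ s ∈ c, p ∣ s - r) → p ∣ c.sum - c.length * r := by
  intro c
  induction c with
  | nil => intro; simp
  | cons a c ih =>
    intro h
    have := dvd_add (h a (by simp)) (ih fun s hs => h s (List.mem_cons_of_mem _ hs))
    obtain ⟨w, hw⟩ := this
    refine ⟨w, ?_⟩
    simp only [List.sum_cons, List.length_cons]
    push_cast
    linarith

/-- The list of the degrees prime to a self-centralized prime, with the residues. -/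
theorem eleven_facts {c : List ℤ} (hlen : c.length = 10) (hc : ∀ s ∈ c, (11 : ℤ) ∣ s - 1) :
    (∀ d ∈ c.map Int.natAbs ++ List.replicate 1 c.sum.natAbs, d % 11 = 1 ∨ d % 11 = 10) ∧
      ((c.map Int.natAbs ++ List.replicate 1 c.sum.natAbs).map sgnEleven).sum = 0 := by
  have hF : ∀ s ∈ c ++ [-c.sum], (11 : ℤ) ∣ s - 1 := by
    intro s hs
    rcases List.mem_append.1 hs with h | h
    · exact hc s h
    · rw [List.mem_singleton] at h
      subst h
      have := dvd_sum_sub c hc
      rw [hlen] at this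
      omega
  have key : ∀ s : ℤ, (11 : ℤ) ∣ s - 1 →
      (s.natAbs % 11 = 1 ∨ s.natAbs % 11 = 10) ∧ sgnEleven s.natAbs = s := by
    intro s hs
    rcases res_of_dvd (p := 11) hs (by norm_num) with ⟨h1, h2⟩ | ⟨h1, h2⟩
    · exact ⟨Or.inl h1, by rw [sgnEleven, if_pos h1]; omega⟩
    · exact ⟨Or.inr h1, by rw [sgnEleven, if_neg (by omega), if_pos h1]; omega⟩
  have e : c.map Int.natAbs ++ List.replicate 1 c.sum.natAbs = (c ++ [-c.sum]).map Int.natAbs := by
    simp
  rw [e]
  refine ⟨fun d hd => ?_, ?_⟩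
  · obtain ⟨s, hs, rfl⟩ := List.mem_map.1 hd
    exact (key s (hF s hs)).1
  · rw [List.map_map, List.map_congr_left (f := sgnEleven ∘ Int.natAbs) (g := id)
      fun s hs => (key s (hF s hs)).2, List.map_id]
    simp

theorem big_facts {c : List ℤ} (hlen : c.length = 11) (hc : ∀ s ∈ c, (23 : ℤ) ∣ s - 1) :
    (∀ d ∈ c.map Int.natAbs, d % 23 = 1 ∨ d % 23 = 22) ∧
      (c.sum.natAbs % 23 = 11 ∨ c.sum.natAbs % 23 = 12) ∧
      ((c.map Int.natAbs ++ List.replicate 2 c.sum.natAbs).map relBig).sum = 0 := by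
  have key : ∀ s : ℤ, (23 : ℤ) ∣ s - 1 →
      (s.natAbs % 23 = 1 ∨ s.natAbs % 23 = 22) ∧ relBig s.natAbs = 2 * s := by
    intro s hs
    rcases res_of_dvd (p := 23) hs (by norm_num) with ⟨h1, h2⟩ | ⟨h1, h2⟩
    · exact ⟨Or.inl h1, by rw [relBig, if_pos h1]; omega⟩
    · exact ⟨Or.inr h1, by rw [relBig, if_neg (by omega), if_pos h1]; omega⟩
  have hS := dvd_sum_sub c hc
  rw [hlen] at hS
  have hx : (c.sum.natAbs % 23 = 11 ∨ c.sum.natAbs % 23 = 12) ∧ relBig c.sum.natAbs = -c.sum := by
    rcases Int.natAbs_eq c.sum with e | e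
    · have h1 : c.sum.natAbs % 23 = 11 := by omega
      exact ⟨Or.inl h1, by
        rw [relBig, if_neg (by omega), if_neg (by omega), if_pos h1]; omega⟩
    · have h1 : c.sum.natAbs % 23 = 12 := by omega
      exact ⟨Or.inr h1, by
        rw [relBig, if_neg (by omega), if_neg (by omega), if_neg (by omega), if_pos h1]; omega⟩
  refine ⟨fun d hd => ?_, hx.1, ?_⟩
  · obtain ⟨s, hs, rfl⟩ := List.mem_map.1 hd
    exact (key s (hc s hs)).1
  · rw [List.map_append, List.map_map, List.sum_append,
      List.map_congr_left (f := relBig ∘ Int.natAbs) (g := fun s => 2 * s)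
        fun s hs => (key s (hc s hs)).2, List.map_replicate,
      hx.2, List.sum_replicate, List.sum_map_mul_left]
    simp

variable [IsSimpleGroup G]

/-- The four lists of degrees. -/
theorem exists_final (hP : Params G) (hS : PartShapes G) : ∃ l ∈ finals, degs G = (l : Multiset ℕ) := by
  classical
  have := Fintype.ofFinite (IrrCharacter G)
  have hperf : commutator G = ⊤ := by
    rcases (inferInstance : (commutator G).Normal).eq_bot_or_eq_top with h | h
    · exfalso
      haveI : IsMulCommutative G := ⟨⟨fun a b => by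
        have hab : ⁅a, b⁆ ∈ commutator G :=
          Subgroup.commutator_mem_commutator (Subgroup.mem_top a) (Subgroup.mem_top b)
        rw [h, Subgroup.mem_bot] at hab
        exact commutatorElement_eq_one_iff_mul_comm.1 hab⟩⟩
      letI : CommGroup G :=
        { (inferInstance : Group G) with mul_comm := fun a b => IsMulCommutative.is_comm.comm a b }
      have h1 : (Nat.card G).Prime := IsSimpleGroup.prime_card (α := G)
      rw [hP.card_eq] at h1
      exact absurd h1 (by norm_num)
    · exact h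
  have hlin : ∀ χ : IrrCharacter G, charDegree (χ : G → ℂ) = 1 → χ = oneChar G := fun χ h =>
    CfsgLib.PGroup.eq_oneChar_of_degree_one hperf ((charDegree_one_iff χ).1 h)
  -- setups
  have setup : ∀ (p : ℕ) [Fact p.Prime], p ∣ Nat.card G → ¬ p ^ 2 ∣ Nat.card G →
      ∃ D : CycSetup p G, Nat.card D.Q = p ∧
        Subgroup.centralizer (D.Q : Set G) = Subgroup.centralizer ({D.x} : Set G) ∧ orderOf D.x = p := by
    intro p _ hd hsq
    obtain ⟨x, hx⟩ := exists_prime_orderOf_dvd_card' (G := G) p hd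
    obtain ⟨D, hD⟩ := exists_cycSetup (Q := Subgroup.zpowers x) (by rw [Nat.card_zpowers, hx]) hsq
    refine ⟨D, D.hQ, ?_, D.orderOf_x⟩
    ext t
    rw [mem_centralizer_iff_commute D.hQ D.hx D.hx1, Subgroup.mem_centralizer_singleton_iff]
    rfl
  haveI : Fact (Nat.Prime 23) := ⟨by norm_num⟩
  haveI : Fact (Nat.Prime 11) := ⟨by norm_num⟩
  haveI : Fact (Nat.Prime 7) := ⟨by norm_num⟩
  haveI : Fact (Nat.Prime 5) := ⟨by norm_num⟩
  obtain ⟨A, hAQ, hAc, hAx⟩ := setup 23 (by rw [hP.card_eq]; norm_num) (by rw [hP.card_eq]; norm_num)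
  obtain ⟨E, hEQ, hEc, hEx⟩ := setup 11 (by rw [hP.card_eq]; norm_num) (by rw [hP.card_eq]; norm_num)
  obtain ⟨S, hSQ, hSc, hSx⟩ := setup 7 (by rw [hP.card_eq]; norm_num) (by rw [hP.card_eq]; norm_num)
  obtain ⟨F, hFQ, hFc, hFx⟩ := setup 5 (by rw [hP.card_eq]; norm_num) (by rw [hP.card_eq]; norm_num)
  letI := Fintype.ofFinite A.K
  letI := Fintype.ofFinite E.K
  letI := Fintype.ofFinite S.K
  letI := Fintype.ofFinite F.K
  letI := Fintype.ofFinite (Subgroup.centralizer (A.Q : Set G))
  letI := Fintype.ofFinite (Subgroup.centralizer (E.Q : Set G))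
  letI := Fintype.ofFinite (Subgroup.centralizer (S.Q : Set G))
  letI := Fintype.ofFinite (Subgroup.centralizer (F.Q : Set G))
  obtain ⟨M₁, hM₁⟩ := exists_pModular (show Nat.Prime 23 by norm_num)
  haveI := hM₁.2.1
  obtain ⟨M₂, hM₂⟩ := exists_pModular (show Nat.Prime 11 by norm_num)
  haveI := hM₂.2.1
  obtain ⟨M₃, hM₃⟩ := exists_pModular (show Nat.Prime 7 by norm_num)
  haveI := hM₃.2.1
  obtain ⟨M₄, hM₄⟩ := exists_pModular (show Nat.Prime 5 by norm_num)
  haveI := hM₄.2.1
  -- 23 and 11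
  obtain ⟨ca, hla, hra, hfa⟩ := exists_selfcent A hM₁ (k := 11)
    (by show Nat.card (Subgroup.centralizer (A.Q : Set G)) = 23; rw [hAc]; exact hP.cent_big _ hAx)
    (hP.norm_big _ hAQ)
  obtain ⟨ce, hle, hre, hfe⟩ := exists_selfcent E hM₂ (k := 10)
    (by show Nat.card (Subgroup.centralizer (E.Q : Set G)) = 11; rw [hEc]; exact hP.cent_eleven _ hEx)
    (hP.norm_eleven _ hEQ)
  norm_num at hfa hfe
  obtain ⟨fa1, fa2, fa3⟩ := big_facts hla hra
  obtain ⟨fe1, fe2⟩ := eleven_facts hle hre
  have hmem : ∀ d ∈ degs G, d ∈ base := by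
    intro d hd
    have hdg : d ∣ 244823040 ∧ d * d < 244823040 := by
      obtain ⟨χ, -, rfl⟩ := mem_blkDegs.1 hd
      refine ⟨hP.card_eq ▸ CfsgLib.Block.charDegree_dvd χ, ?_⟩
      by_cases h1 : charDegree (χ : G → ℂ) = 1
      · rw [h1]; norm_num
      have hs := sum_sq_nat (K := G)
      rw [hP.card_eq, ← Finset.add_sum_erase _ _ (Finset.mem_univ χ)] at hs
      have hne : oneChar G ∈ (Finset.univ : Finset (IrrCharacter G)).erase χ :=
        Finset.mem_erase.2 ⟨fun e => h1 (by rw [← e, charDegree_oneChar]), Finset.mem_univ _⟩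
      have h2 := Finset.single_le_sum (f := fun χ : IrrCharacter G =>
        charDegree (χ : G → ℂ) * charDegree (χ : G → ℂ)) (fun _ _ => Nat.zero_le _) hne
      rw [charDegree_oneChar] at h2
      omega
    have h23 : d % 23 = 0 ∨ d % 23 = 1 ∨ d % 23 = 22 ∨ d % 23 = 11 ∨ d % 23 = 12 := by
      by_cases h : 23 ∣ d
      · omega
      · have : d ∈ (degs G).filter (fun d => ¬ 23 ∣ d) := Multiset.mem_filter.2 ⟨hd, h⟩
        rw [hfa, Multiset.mem_coe, List.mem_append] at this
        rcases this with h' | h'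
        · have := fa1 d h'; omega
        · have := (List.mem_replicate.1 h').2; omega
    have h11 : d % 11 = 0 ∨ d % 11 = 1 ∨ d % 11 = 10 := by
      by_cases h : 11 ∣ d
      · omega
      · have : d ∈ (degs G).filter (fun d => ¬ 11 ∣ d) := Multiset.mem_filter.2 ⟨hd, h⟩
        rw [hfe, Multiset.mem_coe] at this
        have := fe1 d (by simpa using this)
        omega
    refine mem_base_of_test d (by nlinarith [hdg.2]) ?_
    simp only [baseTest, Bool.and_eq_true, Bool.or_eq_true, Nat.beq_eq, Nat.blt, Nat.ble_eq]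
    obtain ⟨⟨k, hk⟩, hlt⟩ := hdg
    exact ⟨⟨⟨Nat.mod_eq_zero_of_dvd ⟨k, hk⟩, hlt⟩, by omega⟩, by omega⟩
  have B : BaseData G := ⟨hP.card_eq, hmem, hlin⟩
  have hdata : DegData (degs G) := by
    have split : ∀ (p : ℕ) (f : ℕ → ℤ), (∀ d, p ∣ d → f d = 0) →
        ((degs G).map f).sum = (((degs G).filter fun d => ¬ p ∣ d).map f).sum := by
      intro p f h0
      conv_lhs => rw [← Multiset.filter_add_not (fun d => ¬ p ∣ d) (degs G)]
      rw [Multiset.map_add, Multiset.sum_add, add_eq_left]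
      refine Multiset.sum_eq_zero fun x hx => ?_
      obtain ⟨d, hd, rfl⟩ := Multiset.mem_map.1 hx
      exact h0 d (not_not.1 (Multiset.mem_filter.1 hd).2)
    have hexc : ((degs G).filter fun d => isExc d = true) =
        Multiset.replicate 2 ca.sum.natAbs := by
      have e : ((degs G).filter fun d => isExc d = true) =
          ((degs G).filter fun d => ¬ 23 ∣ d).filter fun d => isExc d = true := by
        rw [Multiset.filter_filter]
        refine Multiset.filter_congr fun d _ => ⟨fun h => ⟨h, ?_⟩, And.left⟩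
        simp [isExc] at h
        omega
      rw [e, hfa, ← Multiset.coe_replicate, ← Multiset.coe_add, Multiset.filter_add,
        Multiset.filter_eq_nil.2, zero_add, Multiset.filter_eq_self.2]
      · intro d hd
        rw [Multiset.mem_coe, List.mem_replicate] at hd
        simp [isExc, hd.2]
        omega
      · intro d hd
        have := fa1 d (Multiset.mem_coe.1 hd)
        simp [isExc]
        omega
    refine ⟨hmem, ?_, ?_, ?_, ?_, ?_, ?_, ?_⟩
    · rw [sum_map_degs, sum_sq_nat, hP.card_eq]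
    · rw [Multiset.countP_eq_card_filter, Multiset.filter_congr (q := fun d => ¬ 23 ∣ d)
        (fun d _ => by omega), hfa]
      simp [hla]
    · rw [Multiset.countP_eq_card_filter, Multiset.filter_congr (q := fun d => ¬ 11 ∣ d)
        (fun d _ => by omega), hfe]
      simp [hle]
    · rw [split 11 sgnEleven (fun d hd => by rw [sgnEleven, if_neg (by omega), if_neg (by omega)]), hfe,
        Multiset.map_coe, Multiset.sum_coe]
      simpa using fe2
    · rw [Multiset.countP_eq_card_filter, hexc, Multiset.card_replicate]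
    · have hin : ca.sum.natAbs ∈ (degs G).filter fun d => isExc d = true := by
        rw [hexc, Multiset.mem_replicate]; exact ⟨two_ne_zero, rfl⟩
      obtain ⟨h1, h2⟩ := Multiset.mem_filter.1 hin
      refine ⟨_, h1, h2, ?_⟩
      have := congrArg (Multiset.count ca.sum.natAbs) hexc
      rwa [Multiset.count_filter, if_pos h2, Multiset.count_replicate_self] at this
    · rw [split 23 relBig (fun d hd => by
        rw [relBig, if_neg (by omega), if_neg (by omega), if_neg (by omega), if_neg (by omega)]), hfa,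
        Multiset.map_coe, Multiset.sum_coe]
      exact fa3
  -- seven
  have hSC : Nat.card S.C = 42 := by
    show Nat.card (Subgroup.centralizer (S.Q : Set G)) = 42
    rw [hSc]; exact hP.cent_seven _ hSx
  have hSN : Nat.card (Subgroup.normalizer (S.Q : Set G)) = 3 * Nat.card S.C := by
    rw [hP.norm_seven _ hSQ, hSC]
  have hSK : Nat.card S.K = 6 := by have := S.card_C; omega
  have hFC : Nat.card F.C = 60 := by
    show Nat.card (Subgroup.centralizer (F.Q : Set G)) = 60
    rw [hFc]; exact hP.cent_five _ hFx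
  have hFN : Nat.card (Subgroup.normalizer (F.Q : Set G)) = 4 * Nat.card F.C := by
    rw [hP.norm_five _ hFQ, hFC]
  have hFK : Nat.card F.K = 12 := by have := F.card_C; omega
  have no6 : ∀ (p : ℕ) [Fact p.Prime] (D : CycSetup p G), p ≠ 2 → p ≠ 3 →
      (∀ g : G, orderOf g ≠ p * 6) → ∀ g : D.K, orderOf g ≠ 6 := by
    intro p hp' D h2 h3 hno g hg
    have hcm : Commute D.x (g : G) :=
      Subgroup.mem_centralizer_iff.1 ((D.hK (g : G)).1 g.2).1 D.x D.hx
    refine hno (D.x * g) ?_
    rw [hcm.orderOf_mul_eq_mul_orderOf_of_coprime, D.orderOf_x, Subgroup.orderOf_coe, hg]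
    rw [D.orderOf_x, Subgroup.orderOf_coe, hg]
    refine (Fact.out : p.Prime).coprime_iff_not_dvd.2 fun h => ?_
    rcases (Nat.Prime.dvd_mul (Fact.out : p.Prime)).1 (show p ∣ 2 * 3 from h) with h | h
    · exact h2 ((Nat.prime_dvd_prime_iff_eq Fact.out Nat.prime_two).1 h)
    · exact h3 ((Nat.prime_dvd_prime_iff_eq Fact.out Nat.prime_three).1 h)
  obtain ⟨θ, ψ, hθ1, hθd, hψd, hallS⟩ := irr_six (K := S.K) hSK
    (no6 7 S (by norm_num) (by norm_num) hS.no_fortytwo)
  have hψ1 : ψ ≠ oneChar S.K := fun e => by rw [e, charDegree_oneChar] at hψd; omega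
  have oS : ∀ φ : IrrCharacter S.K, S.orbSize φ = 1 := by
    intro φ
    refine orbSize_eq_one S φ fun φ' h => ?_
    have hd := inOrbit_degree S h
    rcases hallS φ with rfl | rfl | rfl
    · exact inOrbit_one S h
    · rcases hallS φ' with rfl | rfl | rfl
      · exfalso
        obtain ⟨n, hn, e⟩ := h
        refine hθ1 (Subtype.ext (funext fun y => ?_))
        have := congrFun (congrArg Subtype.val e) (conjK S.hQ S.hK hn y)
        rw [conjKChar_apply] at this
        exact this
      · rfl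
      · omega
    · rcases hallS φ' with rfl | rfl | rfl
      · rw [charDegree_oneChar] at hd; omega
      · omega
      · rfl
  have eS : ∀ φ : IrrCharacter S.K, S.expCard φ = 3 := fun φ => by
    have := exp_mul_orb S φ hSN
    rwa [oS, mul_one] at this
  obtain ⟨Q₀, hQ₀, eQ⟩ := exists_cand_one S B hM₃ (oS _) (eS _) (by norm_num) (Or.inl (by norm_num))
  obtain ⟨R₀, hR₀, eR⟩ := exists_cand_of S B hM₃ θ hθ1 (r := 1) (oS _) (eS _) hθd (by norm_num) (by norm_num)
  obtain ⟨S₀, hS₀, eS₀⟩ := exists_cand_of S B hM₃ ψ hψ1 (r := 2) (oS _) (eS _) hψd (by norm_num) (by norm_num)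
  have hnS : ∀ φ φ' : IrrCharacter S.K, φ ≠ φ' → ¬ (S.withChar φ).InOrbit φ' := by
    intro φ φ' hne h
    have hc := (S.withChar φ).card_orbit
    rw [show (S.withChar φ).stab.relIndex _ = 1 from oS φ, Nat.card_eq_one_iff_unique] at hc
    exact hne (congrArg Subtype.val (hc.1.elim ⟨φ, inOrbit_self S φ⟩ ⟨φ', h⟩))
  have f7 : (degs G).filter (fun d => ¬ 7 ∣ d) = (Q₀ : Multiset ℕ) + R₀ + S₀ := by
    rw [filter_degs, ← eQ, ← eR, ← eS₀, ← blkDegs_union (disjoint_section S hM₃ (hnS _ _ hθ1.symm)),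
      ← blkDegs_union (Set.disjoint_union_left.2 ⟨disjoint_section S hM₃ (hnS _ _ hψ1.symm),
        disjoint_section S hM₃ (hnS θ ψ fun e => by rw [e] at hθd; omega)⟩)]
    congr 1
    ext χ
    constructor
    · intro h
      obtain ⟨φ', hφ'⟩ := exists_sectionSet S hM₃ h
      rcases hallS φ' with rfl | rfl | rfl
      · exact Or.inl (Or.inl hφ')
      · exact Or.inl (Or.inr hφ')
      · exact Or.inr hφ'
    · rintro ((h | h) | h) <;> exact sectionSet_prime S hM₃ h
  -- five
  obtain ⟨ω, ϑ, hω1, hωr, hωd, hϑd, hallF⟩ := irr_twelve (K := F.K) hFK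
    (no6 5 F (by norm_num) (by norm_num) hS.no_thirty)
  have hϑ1 : ϑ ≠ oneChar F.K := fun e => by rw [e, charDegree_oneChar] at hϑd; omega
  have hcd : charDegree (conjChar ω : F.K → ℂ) = 1 := by
    rw [charDegree_one_iff, conjChar_apply, (charDegree_one_iff ω).1 hωd, map_one]
  have hc1 : conjChar ω ≠ oneChar F.K := by
    intro e
    refine hω1 (Subtype.ext (funext fun y => ?_))
    have := congrFun (congrArg Subtype.val e) y
    rw [conjChar_apply] at this
    show (ω : F.K → ℂ) y = 1
    rw [← Complex.conj_conj ((ω : F.K → ℂ) y), this]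
    exact map_one _
  have hcϑ : conjChar ω ≠ ϑ := fun e => by rw [e] at hcd; omega
  have hωϑ : ω ≠ ϑ := fun e => by rw [e] at hωd; omega
  have orb_ne_one : ∀ φ : IrrCharacter F.K, φ ≠ oneChar F.K →
      ¬ (F.withChar φ).InOrbit (oneChar F.K) := by
    intro φ hne h
    obtain ⟨n, hn, e⟩ := h
    refine hne (Subtype.ext (funext fun y => ?_))
    have := congrFun (congrArg Subtype.val e) (conjK F.hQ F.hK hn y)
    rw [conjKChar_apply] at this
    exact this
  have orb_deg : ∀ φ φ' : IrrCharacter F.K,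
      charDegree (φ' : F.K → ℂ) ≠ charDegree (φ : F.K → ℂ) → ¬ (F.withChar φ).InOrbit φ' :=
    fun φ φ' h ho => h (inOrbit_degree F ho)
  have orb_one : ∀ φ' : IrrCharacter F.K, φ' ≠ oneChar F.K →
      ¬ (F.withChar (oneChar F.K)).InOrbit φ' := fun φ' h ho => h (inOrbit_one F ho)
  have oP : F.orbSize (oneChar F.K) = 1 := orbSize_eq_one F _ fun φ' h => inOrbit_one F h
  have oU : F.orbSize ϑ = 1 := orbSize_eq_one F _ fun φ' h => by
    have hd := inOrbit_degree F h
    rcases hallF φ' with rfl | rfl | rfl | rfl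
    · rw [charDegree_oneChar] at hd; omega
    · omega
    · omega
    · rfl
  have eP : F.expCard (oneChar F.K) = 4 := by
    have := exp_mul_orb F (oneChar F.K) hFN; rwa [oP, mul_one] at this
  have eU : F.expCard ϑ = 4 := by have := exp_mul_orb F ϑ hFN; rwa [oU, mul_one] at this
  obtain ⟨P₀, hP₀, ePl⟩ := exists_cand_one F B hM₄ oP eP (by norm_num) (Or.inr (by norm_num))
  obtain ⟨U₀, hU₀, eUl⟩ := exists_cand_of F B hM₄ ϑ hϑ1 (r := 3) oU eU hϑd (by norm_num) (by norm_num)
  obtain ⟨P₁, hP₁, pP⟩ := exists_of_covered fiveP_covered hP₀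
  obtain ⟨U₁, hU₁, pU⟩ := exists_of_covered fiveThree_covered hU₀
  obtain ⟨Q₁, hQ₁, pQ⟩ := exists_of_covered sevenP_covered hQ₀
  obtain ⟨R₁, hR₁, pR⟩ := exists_of_covered sevenOne_covered hR₀
  obtain ⟨S₁, hS₁, pS⟩ := exists_of_covered sevenTwo_covered hS₀
  rw [← Multiset.coe_eq_coe.2 pQ, ← Multiset.coe_eq_coe.2 pR, ← Multiset.coe_eq_coe.2 pS] at f7
  rw [← Multiset.coe_eq_coe.2 pP] at ePl
  rw [← Multiset.coe_eq_coe.2 pU] at eUl
  have dPU : Disjoint (F.sectionSet (oneChar F.K)) (F.sectionSet ϑ) :=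
    disjoint_section F hM₄ (orb_one ϑ hϑ1)
  have dPw : Disjoint (F.sectionSet (oneChar F.K)) (F.sectionSet ω) :=
    disjoint_section F hM₄ (orb_one ω hω1)
  have dwU : Disjoint (F.sectionSet ω) (F.sectionSet ϑ) :=
    disjoint_section F hM₄ (orb_deg ω ϑ (by omega))
  by_cases hsw : (F.withChar ω).InOrbit (conjChar ω)
  · have oT : F.orbSize ω = 2 := by
      show (F.withChar ω).stab.relIndex _ = 2
      rw [← (F.withChar ω).card_orbit]
      have hiff : ∀ φ' : IrrCharacter F.K, (F.withChar ω).InOrbit φ' ↔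
          φ' = ω ∨ φ' = conjChar ω := by
        intro φ'
        refine ⟨fun h => ?_, ?_⟩
        · rcases hallF φ' with rfl | rfl | rfl | rfl
          · exact absurd h (orb_ne_one _ hω1)
          · exact Or.inl rfl
          · exact Or.inr rfl
          · exact absurd h (orb_deg _ _ (by omega))
        · rintro (rfl | rfl)
          · exact inOrbit_self F _
          · exact hsw
      rw [Nat.card_congr (Equiv.subtypeEquivRight hiff),
        show Nat.card {φ' : IrrCharacter F.K // φ' = ω ∨ φ' = conjChar ω} =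
          ({ω, conjChar ω} : Set (IrrCharacter F.K)).ncard from Nat.card_coe_set_eq _,
        Set.ncard_pair hωr.symm]
    have eT : F.expCard ω = 2 := by
      have := exp_mul_orb F ω hFN
      rw [oT] at this
      omega
    obtain ⟨T₀, hT₀, eTl⟩ := exists_cand_of F B hM₄ ω hω1 (r := 2) oT eT hωd (by norm_num) (by norm_num)
    obtain ⟨T₁, hT₁, pT⟩ := exists_of_covered fiveTwo_covered hT₀
    rw [← Multiset.coe_eq_coe.2 pT] at eTl
    refine finals_swap hdata hP₁ hT₁ hU₁ hQ₁ hR₁ hS₁ ?_ f7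
    rw [filter_degs, ← ePl, ← eTl, ← eUl, ← blkDegs_union dPw,
      ← blkDegs_union (Set.disjoint_union_left.2 ⟨dPU, dwU⟩)]
    congr 1
    ext χ
    constructor
    · intro h
      obtain ⟨φ', hφ'⟩ := exists_sectionSet F hM₄ h
      rcases hallF φ' with rfl | rfl | rfl | rfl
      · exact Or.inl (Or.inl hφ')
      · exact Or.inl (Or.inr hφ')
      · by_contra hn
        simp only [Set.mem_union, not_or] at hn
        obtain ⟨n, hn', e⟩ := hsw
        refine hn.1.2 ((mem_sectionSet_iff F hM₄ hφ').2 ⟨n⁻¹, inv_mem hn', ?_⟩)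
        rw [show (F.withChar (conjChar ω)).φ = conjKChar F.hQ F.hK hn' ω from e.symm,
          F.conjKChar_conjKChar]
        exact Subtype.ext (funext fun y => congrArg (ω : F.K → ℂ) (Subtype.ext (by
          show (n⁻¹ * n)⁻¹ * (y : G) * (n⁻¹ * n)⁻¹⁻¹ = y
          group)))
      · exact Or.inr hφ'
    · rintro ((h | h) | h) <;> exact sectionSet_prime F hM₄ h
  · have hsw' : ¬ (F.withChar (conjChar ω)).InOrbit ω := by
      rintro ⟨n, hn, e⟩
      refine hsw ⟨n⁻¹, inv_mem hn, ?_⟩
      rw [show (F.withChar ω).φ = conjKChar F.hQ F.hK hn (conjChar ω) from e.symm,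
        F.conjKChar_conjKChar]
      exact Subtype.ext (funext fun y => congrArg (conjChar ω : F.K → ℂ) (Subtype.ext (by
        show (n⁻¹ * n)⁻¹ * (y : G) * (n⁻¹ * n)⁻¹⁻¹ = y
        group)))
    have oT : F.orbSize ω = 1 := orbSize_eq_one F _ fun φ' h => by
      rcases hallF φ' with rfl | rfl | rfl | rfl
      · exact absurd h (orb_ne_one _ hω1)
      · rfl
      · exact absurd h hsw
      · exact absurd h (orb_deg _ _ (by omega))
    have eT : F.expCard ω = 4 := by have := exp_mul_orb F ω hFN; rwa [oT, mul_one] at this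
    obtain ⟨T₀, hT₀, eTl⟩ := exists_cand_of F B hM₄ ω hω1 (r := 1) oT eT hωd (by norm_num) (by norm_num)
    have eTc : blkDegs (F.sectionSet (conjChar ω)) = (T₀ : Multiset ℕ) :=
      (blkDegs_conj (mem_section_conj F ω)).trans eTl
    have dT : Disjoint (F.sectionSet ω) (F.sectionSet (conjChar ω)) := disjoint_section F hM₄ hsw
    have hW : T₀ ++ T₀ ∈ twins (blocksOf 5 1 4) := by
      refine List.mem_filter.2 ⟨List.mem_map.2 ⟨T₀, hT₀, rfl⟩, ?_⟩
      have h := blk_sq_le B (F.sectionSet ω ∪ F.sectionSet (conjChar ω))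
      rw [blkDegs_union dT, eTl, eTc, Multiset.coe_add, Multiset.map_coe, Multiset.sum_coe] at h
      simpa using h
    obtain ⟨W₁, hW₁, pW⟩ := exists_of_covered fiveTwin_covered hW
    refine finals_fixed hdata hP₁ hU₁ hW₁ hQ₁ hR₁ hS₁ ?_ f7
    rw [filter_degs, ← ePl, ← eUl, Multiset.coe_eq_coe.2 pW, ← Multiset.coe_add, ← blkDegs_union dPU]
    nth_rewrite 1 [← eTl]
    rw [← eTc, ← blkDegs_union dT, ← blkDegs_union (Set.disjoint_union_left.2
      ⟨Set.disjoint_union_right.2 ⟨dPw, disjoint_section F hM₄ (orb_one _ hc1)⟩,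
        Set.disjoint_union_right.2 ⟨dwU.symm, disjoint_section F hM₄ (orb_deg ϑ _ (by omega))⟩⟩)]
    congr 1
    ext χ
    constructor
    · intro h
      obtain ⟨φ', hφ'⟩ := exists_sectionSet F hM₄ h
      rcases hallF φ' with rfl | rfl | rfl | rfl
      · exact Or.inl (Or.inl hφ')
      · exact Or.inr (Or.inl hφ')
      · exact Or.inr (Or.inr hφ')
      · exact Or.inl (Or.inr hφ')
    · rintro ((h | h) | (h | h)) <;> exact sectionSet_prime F hM₄ h

end CfsgLib.Char.MTwentyFourOrder
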