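import Cfsg.Agent.Lib.Block.Cyclic.SylowCount
import Cfsg.Agent.Lib.Block.RealBlocks

/-!
# The degrees in the blocks of a Sylow subgroup of prime order

The characters of degree prime to `p` are partitioned by the orbits of the characters of the part
prime to `p` of the centralizer, and the degrees in the part of a character are the absolute values
of signed degrees with prescribed residue, one of them repeated.
-/

set_option autoImplicit false
set_option linter.unusedSectionVars false

open Cfsg CfsgLib.Char CfsgLib.Block CfsgLib.Block.Cyclic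
open scoped ComplexConjugate

namespace CfsgLib.Char.MTwentyFourOrder

universe u

variable {G : Type u} [Group G] [Fintype G]

/-- The multiset of the degrees of a set of characters. -/
noncomputable def blkDegs (S : Set (IrrCharacter G)) : Multiset ℕ :=
  S.toFinite.toFinset.val.map fun χ : IrrCharacter G => charDegree (χ : G → ℂ)

/-- The multiset of all the degrees. -/
noncomputable def degs (G : Type u) [Group G] [Fintype G] : Multiset ℕ :=
  blkDegs (Set.univ : Set (IrrCharacter G))

theorem mem_blkDegs {S : Set (IrrCharacter G)} {d : ℕ} :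
    d ∈ blkDegs S ↔ ∃ χ ∈ S, charDegree (χ : G → ℂ) = d := by
  simp [blkDegs]

theorem filter_degs (P : ℕ → Prop) [DecidablePred P] :
    (degs G).filter P = blkDegs {χ : IrrCharacter G | P (charDegree (χ : G → ℂ))} := by
  classical
  rw [degs, blkDegs, blkDegs, Multiset.filter_map, ← Finset.filter_val]
  congr 2
  ext χ
  simp

theorem countP_degs (P : ℕ → Prop) [DecidablePred P] :
    (degs G).countP P = Nat.card {χ : IrrCharacter G // P (charDegree (χ : G → ℂ))} := by
  rw [Multiset.countP_eq_card_filter, filter_degs, blkDegs, Multiset.card_map, Finset.card_val,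
    ← Set.ncard_eq_toFinset_card, ← Nat.card_coe_set_eq]
  rfl

theorem count_degs (d : ℕ) :
    (degs G).count d = Nat.card {χ : IrrCharacter G // charDegree (χ : G → ℂ) = d} := by
  rw [Multiset.count, countP_degs]
  exact Nat.card_congr (Equiv.subtypeEquivRight fun χ => eq_comm)

theorem sum_map_degs [Fintype (IrrCharacter G)] {R : Type*} [AddCommMonoid R] (f : ℕ → R) :
    ((degs G).map f).sum = ∑ χ : IrrCharacter G, f (charDegree (χ : G → ℂ)) := by
  rw [degs, blkDegs, Multiset.map_map]
  show _ = ((Finset.univ : Finset (IrrCharacter G)).val.map fun χ : IrrCharacter G => f (charDegree (χ : G → ℂ))).sum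
  rw [show (Set.univ : Set (IrrCharacter G)).toFinite.toFinset = Finset.univ by ext; simp]
  rfl

theorem blkDegs_union {S T : Set (IrrCharacter G)} (h : Disjoint S T) :
    blkDegs (S ∪ T) = blkDegs S + blkDegs T := by
  classical
  have hd : Disjoint S.toFinite.toFinset T.toFinite.toFinset := by
    simpa [Set.Finite.disjoint_toFinset] using h
  rw [blkDegs, blkDegs, blkDegs, ← Multiset.map_add, ← Finset.disjUnion_val _ _ hd]
  congr 2
  ext χ
  simp

theorem blkDegs_conj {S T : Set (IrrCharacter G)} (h : ∀ χ, χ ∈ T ↔ conjChar χ ∈ S) :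
    blkDegs T = blkDegs S := by
  classical
  have hinv : ∀ χ : IrrCharacter G, conjChar (conjChar χ) = χ := fun χ =>
    Subtype.ext (funext fun g => by simp [conjChar_apply])
  have e : S.toFinite.toFinset = T.toFinite.toFinset.map
      ⟨conjChar, fun a b hab => by rw [← hinv a, hab, hinv]⟩ := by
    ext χ
    simp only [Set.Finite.mem_toFinset, Finset.mem_map, Function.Embedding.coeFn_mk]
    exact ⟨fun hχ => ⟨conjChar χ, (h _).2 (by rwa [hinv]), hinv χ⟩,
      fun ⟨a, ha, e⟩ => e ▸ (h a).1 ha⟩
  rw [blkDegs, blkDegs, e, Finset.map_val, Multiset.map_map]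
  refine Multiset.map_congr rfl fun χ _ => ?_
  show charDegree (χ : G → ℂ) = charDegree (conjChar χ : G → ℂ)
  have h1 := (charDegree_eq (conjChar χ)).1
  rw [conjChar_apply, (charDegree_eq χ).1, map_natCast] at h1
  exact_mod_cast h1

variable {p : ℕ} [hp : Fact p.Prime] [DecidableEq G] (D : CycSetup p G) [Fintype D.K]
  [Fintype (Subgroup.centralizer (D.Q : Set G))]

theorem exists_sectionSet {M : Ideal AlgInt} [M.IsMaximal] (hM : IsPModular p M)
    {χ : IrrCharacter G} (hχ : ¬ p ∣ charDegree (χ : G → ℂ)) :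
    ∃ φ' : IrrCharacter D.K, χ ∈ D.sectionSet φ' := by
  classical
  have := Fintype.ofFinite (IrrCharacter D.K)
  have hne := value_pElement_ne_zero hM hχ (x := D.xp 1)
    ⟨1, by rw [D.xp_one, D.orderOf_x, pow_one]⟩
  have h := value_eq_sum D.hQ D.hK (isClassFunction_irr χ) (D.xp_mem 1) 1
  rw [OneMemClass.coe_one, mul_one] at h
  rw [h] at hne
  obtain ⟨φ', -, h'⟩ := Finset.exists_ne_zero_of_sum_ne_zero hne
  exact ⟨φ', 1, one_ne_zero, fun h0 => h' (by rw [h0, zero_mul])⟩

theorem sectionSet_prime {M : Ideal AlgInt} [M.IsMaximal] (hM : IsPModular p M) {φ : IrrCharacter D.K}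
    {χ : IrrCharacter G} (hχ : χ ∈ D.sectionSet φ) : ¬ p ∣ charDegree (χ : G → ℂ) := by
  obtain ⟨B, hB⟩ := (D.withChar φ).exists_blockData hM
  have e : D.sectionSet φ = B := (D.withChar φ).sectionSet_eq hM hB
  exact (D.withChar φ).not_dvd_deg hM hB (e ▸ hχ)

theorem mem_sectionSet_iff {M : Ideal AlgInt} [M.IsMaximal] (hM : IsPModular p M)
    {φ φ' : IrrCharacter D.K} {χ : IrrCharacter G} (hχ : χ ∈ D.sectionSet φ) :
    χ ∈ D.sectionSet φ' ↔ (D.withChar φ).InOrbit φ' := by
  obtain ⟨B, hB⟩ := (D.withChar φ).exists_blockData hM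
  have e : D.sectionSet φ = B := (D.withChar φ).sectionSet_eq hM hB
  constructor
  · rintro ⟨i, hi, hne⟩
    by_contra ho
    exact hne (hB.sec_out χ (e ▸ hχ) φ' ho i hi)
  · rintro ⟨n, hn, rfl⟩
    obtain ⟨i, hi, hne⟩ := hχ
    refine ⟨D.expo0 ⟨n, hn⟩ * i, mul_ne_zero (D.expo0_isUnit _).ne_zero hi, fun h0 => hne ?_⟩
    rw [← h0, ← D.conj_xp]
    exact (secMult_conj D.hQ D.hK (isClassFunction_irr χ) hn φ _).symm

/-- The degrees in a block: signed degrees with the same residue, the exceptional one repeated. -/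
theorem exists_block_list {M : Ideal AlgInt} [M.IsMaximal] (hM : IsPModular p M)
    (φ : IrrCharacter D.K) {o e d : ℕ} (ho : D.orbSize φ = o) (he : D.expCard φ = e)
    (hd : charDegree (φ : D.K → ℂ) = d) :
    ∃ c : List ℤ, c.length = e ∧ (∀ s ∈ c, (p : ℤ) ∣ s - ((o * d : ℕ) : ℤ)) ∧
      blkDegs (D.sectionSet φ) =
        ((c.map Int.natAbs ++ List.replicate ((p - 1) / e) c.sum.natAbs : List ℕ) : Multiset ℕ) := by
  classical
  have := Fintype.ofFinite (IrrCharacter G)
  obtain ⟨B, hB⟩ := (D.withChar φ).exists_blockData hM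
  have hBe : D.sectionSet φ = B := (D.withChar φ).sectionSet_eq hM hB
  obtain ⟨E⟩ := (D.withChar φ).exists_exceptional_family hM hB
  have hcE : Nat.card (D.withChar φ).expE = e := ((D.withChar φ).card_expE).trans he
  set Xs := Finset.univ.filter fun χ : IrrCharacter G => E.u χ ≠ 0 with hXs
  set Ys := Finset.univ.filter fun χ : IrrCharacter G => χ ∈ Set.range E.Y with hYs
  have hXcard : Xs.card = e := by
    rw [hXs, ← Fintype.card_subtype, ← Nat.card_eq_fintype_card, E.card_u, hcE]
  have hYcard : Ys.card = (p - 1) / e := by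
    rw [hYs, ← Fintype.card_subtype, ← Nat.card_eq_fintype_card, ← hcE]
    exact E.card_range
  have hdisj : Disjoint Xs Ys := Finset.disjoint_filter.2 fun χ _ hu => by
    rintro ⟨k, rfl⟩
    exact hu (E.u_Y k)
  refine ⟨Xs.toList.map fun χ => -(E.u χ) * (charDegree (χ : G → ℂ) : ℤ), by simp [hXcard], ?_, ?_⟩
  · intro s hs
    obtain ⟨χ, hχ, rfl⟩ := List.mem_map.1 hs
    have hu : E.u χ ≠ 0 := (Finset.mem_filter.1 (Finset.mem_toList.1 hχ)).2
    have hcg := E.charDegree_u hB hu
    rw [Int.modEq_iff_dvd, show ((D.withChar φ).stab.relIndex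
      (Subgroup.normalizer ((D.withChar φ).Q : Set G))) = o from ho,
      show charDegree ((D.withChar φ).φ : D.K → ℂ) = d from hd] at hcg
    rcases E.u_cases χ with h | h | h
    · exact absurd h hu
    · rw [h] at hcg ⊢
      push_cast at hcg ⊢
      obtain ⟨w, hw⟩ := hcg
      exact ⟨w, by linarith⟩
      
    · rw [h] at hcg ⊢
      push_cast at hcg ⊢
      obtain ⟨w, hw⟩ := hcg
      exact ⟨-w, by linarith⟩
  · have hsum : ∀ χ ∈ Ys, charDegree (χ : G → ℂ) =
        ((Xs.toList.map fun χ => -(E.u χ) * (charDegree (χ : G → ℂ) : ℤ)).sum).natAbs := by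
      intro χ hχ
      obtain ⟨k, rfl⟩ := (Finset.mem_filter.1 hχ).2
      have hrel := E.relation k (g := (1 : G)) (by simp [hp.out.ne_one])
      rw [finsum_mem_eq_finite_toFinset_sum _ (Set.toFinite _)] at hrel
      rw [show (Set.toFinite {χ : IrrCharacter G | E.u χ ≠ 0}).toFinset = Xs by ext; simp [hXs],
        (charDegree_eq (E.Y k)).1, Finset.sum_congr rfl fun χ _ => show
          (E.u χ : ℂ) * (χ : G → ℂ) 1 = ((E.u χ * charDegree (χ : G → ℂ) : ℤ) : ℂ) by
            rw [(charDegree_eq χ).1]; push_cast; ring] at hrel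
      have hz : (∑ χ ∈ Xs, E.u χ * (charDegree (χ : G → ℂ) : ℤ)) +
          E.δ * (charDegree (E.Y k : G → ℂ) : ℤ) = 0 := by
        exact_mod_cast hrel
      rw [Finset.sum_map_toList]
      simp only [neg_mul, Finset.sum_neg_distrib, Int.natAbs_neg]
      rw [eq_neg_of_add_eq_zero_left hz, Int.natAbs_neg, Int.natAbs_mul, Int.natAbs_natCast]
      rcases E.sign with h | h <;> simp [h]
    rw [hBe, blkDegs, show B.toFinite.toFinset = Xs.disjUnion Ys hdisj by
        ext χ; simp [hXs, hYs, E.mem χ],
      Finset.disjUnion_val, Multiset.map_add, Multiset.map_congr rfl hsum, Multiset.map_const',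
      ← Multiset.coe_add, Multiset.coe_replicate, List.map_map]
    rw [show Multiset.card Ys.val = (p - 1) / e from hYcard]
    congr 1
    conv_lhs => rw [← Finset.coe_toList, Multiset.map_coe]
    refine congrArg _ (List.map_congr_left fun χ hχ => ?_)
    have hu : E.u χ ≠ 0 := (Finset.mem_filter.1 (Finset.mem_toList.1 hχ)).2
    rcases E.u_cases χ with h | h | h
    · exact absurd h hu
    · simp [h]
    · simp [h]

end CfsgLib.Char.MTwentyFourOrder
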