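import Cfsg.Agent.Lib.Char.MTwentyFourOrder.Phase.Code

/-!
# Simple groups of order 244823040: the candidates for the degrees in a block
-/

set_option autoImplicit false

namespace CfsgLib.Char.MTwentyFourOrder

/-- The lists for a longer list from those for its tail. -/
def combosCons {α : Type*} (a : α) (prev : ℕ → List (List α)) : ℕ → List (List α)
  | 0 => [[]]
  | k + 1 => (combosCons a prev k).map (a :: ·) ++ prev (k + 1)

/-- The multisets of `k` members of a list, as lists. -/
def combosFn {α : Type*} : List α → ℕ → List (List α)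
  | [] => fun k => if k = 0 then [[]] else []
  | a :: l => combosCons a (combosFn l)

/-- The multisets of `k` members of a list, as lists. -/
def combos {α : Type*} (k : ℕ) (l : List α) : List (List α) := combosFn l k

theorem exists_combos {α : Type*} [DecidableEq α] : ∀ (l : List α) (k : ℕ) (m : Multiset α),
    (∀ x ∈ m, x ∈ l) → Multiset.card m = k → ∃ c ∈ combos k l, (c : Multiset α) = m := by
  intro l
  induction l with
  | nil =>
    intro k m hm hk
    obtain rfl : m = 0 := Multiset.eq_zero_of_forall_notMem fun x hx => by simpa using hm x hx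
    obtain rfl : k = 0 := by simpa using hk.symm
    exact ⟨[], by simp [combos, combosFn], rfl⟩
  | cons a l ih =>
    intro k
    induction k with
    | zero =>
      intro m _ hk
      exact ⟨[], by simp [combos, combosFn, combosCons], by simpa using (Multiset.card_eq_zero.1 hk).symm⟩
    | succ k ihk =>
      intro m hm hk
      by_cases ha : a ∈ m
      · obtain ⟨c, hc, hcm⟩ := ihk (m.erase a) (fun x hx => hm x (Multiset.mem_of_mem_erase hx))
          (by rw [Multiset.card_erase_of_mem ha, hk]; rfl)
        refine ⟨a :: c, ?_, by rw [← Multiset.cons_coe, hcm, Multiset.cons_erase ha]⟩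
        rw [combos, combosFn, combosCons, List.mem_append]
        exact Or.inl (List.mem_map.2 ⟨c, hc, rfl⟩)
      · obtain ⟨c, hc, hcm⟩ := ih (k + 1) m (fun x hx => by
          rcases List.mem_cons.1 (hm x hx) with rfl | h
          · exact absurd hx ha
          · exact h) hk
        refine ⟨c, ?_, hcm⟩
        rw [combos, combosFn, combosCons, List.mem_append]
        exact Or.inr hc

/-- The signed degrees with residue `r` modulo `p` other than the trivial one. -/
def signedCands (p r : ℕ) : List ℤ :=
  (base.flatMap fun d : ℕ => [(d : ℤ), -(d : ℤ)]).filter fun s =>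
    ((s - (r : ℤ)) % (p : ℤ) == 0) && (s.natAbs != 1)

/-- The degrees of a block with given signed degrees. -/
def blockList (m : ℕ) (c : List ℤ) : List ℕ :=
  c.map Int.natAbs ++ List.replicate m c.sum.natAbs

/-- A cheap form of membership in the candidate degrees. -/
def baseTest (x : ℕ) : Bool :=
  Nat.beq (244823040 % x) 0 && Nat.blt (x * x) 244823040 &&
    (Nat.beq (x % 23) 0 || Nat.beq (x % 23) 1 || Nat.beq (x % 23) 22 || Nat.beq (x % 23) 11 ||
      Nat.beq (x % 23) 12) &&
    (Nat.beq (x % 11) 0 || Nat.beq (x % 11) 1 || Nat.beq (x % 11) 10)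

theorem baseTest_of_mem {x : ℕ} (h : x ∈ base) : baseTest x = true :=
  (List.all_eq_true.1 (show base.all baseTest = true by decide +kernel)) x h

/-- The conditions on a block. -/
def blockOK (p m : ℕ) (ones : ℕ) (c : List ℤ) : Bool :=
  baseTest c.sum.natAbs && (c.sum.natAbs % p != 0) &&
    decide (((blockList m c).map fun d => d * d).sum ≤ 244823040) && ((blockList m c).count 1 == ones)

/-- The blocks not containing the trivial character. -/
def blocksOf (p r e : ℕ) : List (List ℕ) :=
  ((combos e (signedCands p r)).filter (blockOK p ((p - 1) / e) 0)).map (blockList ((p - 1) / e))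

/-- The blocks containing the trivial character among the non-exceptional ones. -/
def blocksOne (p e : ℕ) : List (List ℕ) :=
  (((combos (e - 1) (signedCands p 1)).map (List.cons 1)).filter (blockOK p ((p - 1) / e) 1)).map
    (blockList ((p - 1) / e))

theorem mem_signedCands {p r : ℕ} {s : ℤ} (hb : s.natAbs ∈ base) (hp : (p : ℤ) ∣ s - r)
    (h1 : s.natAbs ≠ 1) : s ∈ signedCands p r := by
  refine List.mem_filter.2 ⟨List.mem_flatMap.2 ⟨s.natAbs, hb, ?_⟩, ?_⟩
  · rcases Int.natAbs_eq s with h | h
    · exact List.mem_cons.2 (Or.inl h)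
    · exact List.mem_cons.2 (Or.inr (List.mem_singleton.2 h))
  · rw [Bool.and_eq_true]
    exact ⟨by simpa using Int.emod_eq_zero_of_dvd hp, by simpa using h1⟩

theorem blockList_perm (m : ℕ) {c c' : List ℤ} (h : c.Perm c') : (blockList m c).Perm (blockList m c') := by
  rw [blockList, blockList, h.sum_eq]
  exact (h.map _).append_right _

theorem blockOK_perm (p m ones : ℕ) {c c' : List ℤ} (h : c.Perm c') :
    blockOK p m ones c = blockOK p m ones c' := by
  have hl := blockList_perm m h
  rw [blockOK, blockOK, h.sum_eq, (hl.map _).sum_eq, hl.count_eq]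

/-- Completeness of the blocks without the trivial character. -/
theorem exists_blocksOf {p r e : ℕ} (c : List ℤ) (hlen : c.length = e)
    (hc : ∀ s ∈ c, s.natAbs ∈ base ∧ (p : ℤ) ∣ s - r ∧ s.natAbs ≠ 1)
    (hok : blockOK p ((p - 1) / e) 0 c = true) :
    ∃ l ∈ blocksOf p r e, l.Perm (blockList ((p - 1) / e) c) := by
  obtain ⟨c', hc', he⟩ := exists_combos (signedCands p r) e (c : Multiset ℤ)
    (fun s hs => mem_signedCands (hc s hs).1 (hc s hs).2.1 (hc s hs).2.2) (by simpa using hlen)
  have hp : c'.Perm c := Multiset.coe_eq_coe.1 he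
  exact ⟨_, List.mem_map.2 ⟨c', List.mem_filter.2 ⟨hc', (blockOK_perm p _ 0 hp).trans hok⟩, rfl⟩,
    blockList_perm _ hp⟩

/-- Completeness of the blocks with the trivial character. -/
theorem exists_blocksOne {p e : ℕ} (c : List ℤ) (hlen : c.length = e - 1)
    (hc : ∀ s ∈ c, s.natAbs ∈ base ∧ (p : ℤ) ∣ s - 1 ∧ s.natAbs ≠ 1)
    (hok : blockOK p ((p - 1) / e) 1 (1 :: c) = true) :
    ∃ l ∈ blocksOne p e, l.Perm (blockList ((p - 1) / e) (1 :: c)) := by
  obtain ⟨c', hc', he⟩ := exists_combos (signedCands p 1) (e - 1) (c : Multiset ℤ)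
    (fun s hs => mem_signedCands (hc s hs).1 (hc s hs).2.1 (hc s hs).2.2) (by simpa using hlen)
  have hp : (1 :: c').Perm (1 :: c) := (Multiset.coe_eq_coe.1 he).cons 1
  exact ⟨_, List.mem_map.2 ⟨1 :: c', List.mem_filter.2 ⟨List.mem_map.2 ⟨c', hc', rfl⟩,
    (blockOK_perm p _ 1 hp).trans hok⟩, rfl⟩, blockList_perm _ hp⟩

end CfsgLib.Char.MTwentyFourOrder
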