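import Mathlib

/-!
# Simple groups of order 244823040: packed multisets of degrees

A multiset of degrees is encoded by a natural number with five bits per candidate degree, the
features of a multiset (the counts by residue classes and the sum of the squares) by a natural
number with eight bits per count.
-/

set_option autoImplicit false

namespace CfsgLib.Char.MTwentyFourOrder

/-- The divisors of the order whose square is less than the order and whose residues modulo 23 and
11 are admissible. -/
def base : List ℕ := [1, 11, 12, 22, 23, 45, 230, 231, 252, 253, 264, 276, 483, 495, 506, 528, 540, 736, 759, 770, 990, 1012, 1024, 1035, 1242, 1265, 1288, 1518, 1540, 1760, 1771, 2024, 2277, 2530, 2760, 2772, 3024, 3036, 3312, 3520, 3542, 3795, 3840, 4048, 4554, 4830, 5060, 5313, 5544, 5796, 6072, 6336, 6831, 7084, 7360, 7590, 8096, 8832, 8855, 9108, 9856, 10120, 10395, 10626, 11385, 11880, 12144, 12420, 12672, 12880, 13662, 14168, 15180, 15456]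

/-- A degree divisible neither by five nor by seven. -/
def isBoth (d : ℕ) : Bool := (d % 5 != 0) && (d % 7 != 0)

/-- The shift of the field of a degree. -/
def sh (d : ℕ) : ℕ := 5 * base.idxOf d

/-- The code of a multiset of degrees. -/
def code (m : Multiset ℕ) : ℕ := (m.map fun d => 32 ^ base.idxOf d).sum

/-- The code of the degrees divisible neither by five nor by seven. -/
def codeB (m : Multiset ℕ) : ℕ := code (m.filter fun d => isBoth d = true)

/-- The guard bits of the fields of the degrees divisible neither by five nor by seven. -/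
def guardB : ℕ := 36731848767727586600876560734294407707793758982556070102716806557522328779962867600029729039789764809081360

/-- The guard bits of the counts. -/
def guardW : ℕ := 36170086419038336

/-- The bound for the sum of the squares. -/
def wLim : ℕ := 17641359299508986630373376

/-- The counts by residue class of a degree. -/
def classInd (d : ℕ) : List ℕ :=
  [decide (d % 5 ∈ [1, 4]), decide (d % 5 ∈ [2, 3]), decide (d % 7 ∈ [1, 6]), decide (d % 7 ∈ [2, 5]),
    decide (d % 7 ∈ [3, 4]), decide (d % 23 ≠ 0), decide (d % 11 ≠ 0)].map Bool.toNat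

/-- The features of a degree. -/
def feat (d : ℕ) : ℕ := Nat.ofDigits 256 (classInd d) + 2 ^ 56 * (d * d)

/-- The offsets for given caps. -/
def featOff (caps : List ℕ) : ℕ := Nat.ofDigits 256 (caps.map fun c => 127 - c)

/-- The features are within the caps. -/
noncomputable def wGood (W : ℕ) : Bool := Nat.beq (W &&& guardW) 0 && Nat.blt W wLim

theorem land_step {w a b c d : ℕ} (ha : a < 2 ^ w) (hc : c < 2 ^ w) :
    (a + 2 ^ w * b) &&& (c + 2 ^ w * d) = (a &&& c) + 2 ^ w * (b &&& d) := by
  refine Nat.eq_of_testBit_eq fun j => ?_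
  rw [Nat.testBit_and, add_comm a, add_comm c, add_comm (a &&& c),
    Nat.testBit_two_pow_mul_add _ ha, Nat.testBit_two_pow_mul_add _ hc,
    Nat.testBit_two_pow_mul_add _ (Nat.and_lt_two_pow _ hc)]
  split_ifs <;> simp

theorem land_digits (w : ℕ) : ∀ (l m : List ℕ), l.length = m.length → (∀ a ∈ l, a < 2 ^ w) →
    (∀ a ∈ m, a < 2 ^ w) → ∀ x : ℕ,
      (Nat.ofDigits (2 ^ w) l + 2 ^ (w * l.length) * x) &&& Nat.ofDigits (2 ^ w) m =
        Nat.ofDigits (2 ^ w) (List.zipWith (· &&& ·) l m) := by
  intro l
  induction l with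
  | nil =>
    intro m hm _ _ x
    obtain rfl : m = [] := List.eq_nil_of_length_eq_zero hm.symm
    simp [Nat.ofDigits]
  | cons a l ih =>
    intro m hm hl hm' x
    obtain ⟨c, m, rfl⟩ : ∃ c m', m = c :: m' := by
      cases m with
      | nil => simp at hm
      | cons c m' => exact ⟨c, m', rfl⟩
    simp only [List.zipWith_cons_cons, Nat.ofDigits_cons, List.length_cons] at hm ⊢
    rw [show a + 2 ^ w * Nat.ofDigits (2 ^ w) l + 2 ^ (w * (l.length + 1)) * x =
      a + 2 ^ w * (Nat.ofDigits (2 ^ w) l + 2 ^ (w * l.length) * x) by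
        rw [show w * (l.length + 1) = w + w * l.length by ring, pow_add]; ring,
      land_step (hl a (by simp)) (hm' c (by simp)),
      ih m (by simpa using hm) (fun b hb => hl b (List.mem_cons_of_mem _ hb))
        (fun b hb => hm' b (List.mem_cons_of_mem _ hb)) x]

theorem digit_ofDigits {B : ℕ} : ∀ (l : List ℕ), (∀ a ∈ l, a < B) → ∀ i (hi : i < l.length),
    Nat.ofDigits B l / B ^ i % B = l[i] := by
  intro l
  induction l with
  | nil => intro _ i hi; simp at hi
  | cons a l ih =>
    intro hl i hi
    have ha : a < B := hl a (by simp)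
    rw [Nat.ofDigits_cons]
    cases i with
    | zero => simp [Nat.mod_eq_of_lt ha]
    | succ i =>
      rw [pow_succ', ← Nat.div_div_eq_div_mul, Nat.add_mul_div_left _ _ (by omega),
        Nat.div_eq_of_lt ha, zero_add, ih (fun b hb => hl b (List.mem_cons_of_mem _ hb)) i
          (by simpa using hi)]
      rfl

theorem sum_pow_idxOf (B : ℕ) : ∀ (bs : List ℕ), bs.Nodup → ∀ m : Multiset ℕ, (∀ d ∈ m, d ∈ bs) →
    (m.map fun d => B ^ bs.idxOf d).sum = Nat.ofDigits B (bs.map fun b => m.count b) := by
  intro bs
  induction bs with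
  | nil =>
    intro _ m hm
    obtain rfl : m = 0 := Multiset.eq_zero_of_forall_notMem fun d hd => by simpa using hm d hd
    simp
  | cons a bs ih =>
    intro hnd m hm
    obtain ⟨ha, hnd⟩ := List.nodup_cons.1 hnd
    have hne : ∀ d ∈ m.filter (fun d => ¬ d = a), d ∈ bs := fun d hd => by
      obtain ⟨hd, hda⟩ := Multiset.mem_filter.1 hd
      simpa [hda] using hm d hd
    conv_lhs => rw [← Multiset.filter_add_not (fun d => d = a) m]
    rw [Multiset.map_add, Multiset.sum_add, List.map_cons, Nat.ofDigits_cons]
    congr 1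
    · rw [Multiset.filter_eq' m a, Multiset.map_replicate, Multiset.sum_replicate]
      simp
    · rw [Multiset.map_congr rfl (g := fun d => B * B ^ bs.idxOf d) (fun d hd => by
        obtain ⟨-, hda⟩ := Multiset.mem_filter.1 hd
        rw [List.idxOf_cons_ne _ (Ne.symm hda), pow_succ']),
        Multiset.sum_map_mul_left, ih hnd _ hne]
      congr 2
      refine List.map_congr_left fun b hb => ?_
      rw [Multiset.count_filter, if_pos (fun e : b = a => ha (e ▸ hb))]

theorem base_nodup : base.Nodup := by decide +kernel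

theorem code_eq {m : Multiset ℕ} (hm : ∀ d ∈ m, d ∈ base) :
    code m = Nat.ofDigits (2 ^ 5) (base.map fun b => m.count b) :=
  sum_pow_idxOf 32 base base_nodup m hm

theorem code_add (m n : Multiset ℕ) : code (m + n) = code m + code n := by
  simp [code, Multiset.map_add]

theorem codeB_add (m n : Multiset ℕ) : codeB (m + n) = codeB m + codeB n := by
  simp [codeB, Multiset.filter_add, code_add]

theorem code_cons (d : ℕ) (m : Multiset ℕ) : code (d ::ₘ m) = 32 ^ base.idxOf d + code m := by
  simp [code]

/-- The field of a degree in the code is its multiplicity. -/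
theorem fld_code {m : Multiset ℕ} (hm : ∀ d ∈ m, d ∈ base) (hc : ∀ b, m.count b < 32) {d : ℕ}
    (hd : d ∈ base) : (code m >>> sh d) &&& 31 = m.count d := by
  rw [code_eq hm, Nat.shiftRight_eq_div_pow, show (31 : ℕ) = 2 ^ 5 - 1 by norm_num,
    Nat.and_two_pow_sub_one_eq_mod, sh, pow_mul,
    digit_ofDigits _ (by simpa using fun b _ => hc b) (base.idxOf d)
      (by rw [List.length_map]; exact List.idxOf_lt_length_iff.2 hd)]
  simp

/-- The sum of the features. -/
def featSum (m : Multiset ℕ) : ℕ := (m.map feat).sum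

theorem featSum_cons (d : ℕ) (m : Multiset ℕ) : featSum (d ::ₘ m) = feat d + featSum m := by
  simp [featSum]

theorem featSum_eq (m : Multiset ℕ) : featSum m =
    Nat.ofDigits 256 [m.countP (fun d => d % 5 ∈ [1, 4]), m.countP (fun d => d % 5 ∈ [2, 3]),
      m.countP (fun d => d % 7 ∈ [1, 6]), m.countP (fun d => d % 7 ∈ [2, 5]),
      m.countP (fun d => d % 7 ∈ [3, 4]), m.countP (fun d => d % 23 ≠ 0),
      m.countP (fun d => d % 11 ≠ 0)] + 2 ^ 56 * (m.map fun d => d * d).sum := by
  induction m using Multiset.induction_on with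
  | empty => simp [featSum, Nat.ofDigits]
  | cons d m ih =>
    rw [featSum_cons, ih, feat]
    simp only [classInd, List.map_cons, List.map_nil, Nat.ofDigits_cons, Nat.ofDigits_nil,
      Multiset.countP_cons, Multiset.map_cons, Multiset.sum_cons]
    have e : ∀ (P : Prop) [Decidable P], (decide P).toNat = if P then 1 else 0 := fun P _ => by
      by_cases h : P <;> simp [h]
    simp only [e]
    ring

theorem wGood_of (caps : List ℕ) (h7 : caps.length = 7) (hcap : ∀ c ∈ caps, c ≤ 127)
    (m : Multiset ℕ) (h0 : m.countP (fun d => d % 5 ∈ [1, 4]) ≤ caps[0])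
    (h1 : m.countP (fun d => d % 5 ∈ [2, 3]) ≤ caps[1])
    (h2 : m.countP (fun d => d % 7 ∈ [1, 6]) ≤ caps[2])
    (h3 : m.countP (fun d => d % 7 ∈ [2, 5]) ≤ caps[3])
    (h4 : m.countP (fun d => d % 7 ∈ [3, 4]) ≤ caps[4])
    (h5 : m.countP (fun d => d % 23 ≠ 0) ≤ caps[5])
    (h6 : m.countP (fun d => d % 11 ≠ 0) ≤ caps[6])
    (hsq : (m.map fun d => d * d).sum ≤ 244823040) : wGood (featOff caps + featSum m) = true := by
  obtain ⟨c0, c1, c2, c3, c4, c5, c6, rfl⟩ : ∃ c0 c1 c2 c3 c4 c5 c6,
      caps = [c0, c1, c2, c3, c4, c5, c6] := by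
    match caps, h7 with
    | [c0, c1, c2, c3, c4, c5, c6], _ => exact ⟨_, _, _, _, _, _, _, rfl⟩
  simp only [List.getElem_cons_zero, List.getElem_cons_succ] at h0 h1 h2 h3 h4 h5 h6
  rw [featSum_eq]
  generalize hn0 : m.countP (fun d => d % 5 ∈ [1, 4]) = n0 at *
  generalize hn1 : m.countP (fun d => d % 5 ∈ [2, 3]) = n1 at *
  generalize hn2 : m.countP (fun d => d % 7 ∈ [1, 6]) = n2 at *
  generalize hn3 : m.countP (fun d => d % 7 ∈ [2, 5]) = n3 at *
  generalize hn4 : m.countP (fun d => d % 7 ∈ [3, 4]) = n4 at *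
  generalize hn5 : m.countP (fun d => d % 23 ≠ 0) = n5 at *
  generalize hn6 : m.countP (fun d => d % 11 ≠ 0) = n6 at *
  generalize hq : (m.map fun d => d * d).sum = q at *
  simp only [List.mem_cons, List.not_mem_nil, or_false, forall_eq_or_imp, forall_eq] at hcap
  obtain ⟨k0, k1, k2, k3, k4, k5, k6⟩ := hcap
  set l : List ℕ := [127 - c0 + n0, 127 - c1 + n1, 127 - c2 + n2, 127 - c3 + n3, 127 - c4 + n4,
    127 - c5 + n5, 127 - c6 + n6] with hl
  have hl128 : ∀ a ∈ l, a < 128 := by
    simp only [hl, List.mem_cons, List.not_mem_nil, or_false, forall_eq_or_imp, forall_eq]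
    omega
  have hW : featOff [c0, c1, c2, c3, c4, c5, c6] +
      (Nat.ofDigits 256 [n0, n1, n2, n3, n4, n5, n6] + 2 ^ 56 * q) =
      Nat.ofDigits (2 ^ 8) l + 2 ^ (8 * l.length) * q := by
    simp only [featOff, hl, List.map_cons, List.map_nil, Nat.ofDigits_cons, Nat.ofDigits_nil,
      List.length_cons, List.length_nil]
    ring
  rw [hW, wGood, Bool.and_eq_true]
  constructor
  · rw [Nat.beq_eq,
      show guardW = Nat.ofDigits (2 ^ 8) (List.replicate 7 128) by decide +kernel,
      land_digits 8 l (List.replicate 7 128) rfl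
        (fun a ha => (hl128 a ha).trans (by norm_num)) (by simp) q]
    have hz : List.zipWith (· &&& ·) l (List.replicate 7 128) = List.replicate 7 0 := by
      have : ∀ a < 128, a &&& 128 = 0 := by decide
      simp only [hl, List.mem_cons, List.not_mem_nil, or_false, forall_eq_or_imp, forall_eq] at hl128
      obtain ⟨a0, a1, a2, a3, a4, a5, a6⟩ := hl128
      simp [hl, List.replicate, this _ a0, this _ a1, this _ a2, this _ a3, this _ a4, this _ a5,
        this _ a6]
    rw [hz]
    rfl
  · rw [Nat.blt, Nat.ble_eq]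
    have hlt : Nat.ofDigits (2 ^ 8) l < (2 ^ 8) ^ l.length :=
      Nat.ofDigits_lt_base_pow_length (by norm_num) fun a ha => (hl128 a ha).trans (by norm_num)
    simp only [hl, List.length_cons, List.length_nil] at hlt ⊢
    simp only [wLim]
    norm_num at hlt ⊢
    omega

end CfsgLib.Char.MTwentyFourOrder
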