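import Cfsg.Agent.Lib.Block.RealBlocks
import Cfsg.Agent.Lib.Block.Cartan
import Cfsg.Agent.Lib.Char.Linear
import Cfsg.Agent.Lib.Invol.OrderTwelve

/-!
# The characters of the groups of order 6 and 12 without elements of order 6
-/

set_option autoImplicit false
set_option linter.unusedSectionVars false
set_option linter.style.haveILetI false

open Cfsg CfsgLib.Char CfsgLib.Block
open scoped ComplexConjugate commutatorElement

namespace CfsgLib.Char.MTwentyFourOrder

universe u

variable {K : Type u} [Group K] [Fintype K]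

theorem sum_sq_nat [Fintype (IrrCharacter K)] :
    ∑ χ : IrrCharacter K, charDegree (χ : K → ℂ) * charDegree (χ : K → ℂ) = Nat.card K := by
  have h := sum_degree_sq (G := K)
  simp only [(charDegree_eq _).1] at h
  have h' : ((∑ χ : IrrCharacter K, charDegree (χ : K → ℂ) * charDegree (χ : K → ℂ) : ℕ) : ℂ) =
      (Nat.card K : ℂ) := by
    push_cast
    simp only [pow_two] at h
    exact h
  exact_mod_cast h'

theorem charDegree_one_iff (χ : IrrCharacter K) :
    charDegree (χ : K → ℂ) = 1 ↔ (χ : K → ℂ) 1 = 1 := by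
  rw [(charDegree_eq χ).1]
  exact Nat.cast_eq_one.symm

theorem card_degree_one : Nat.card {χ : IrrCharacter K // charDegree (χ : K → ℂ) = 1} =
    (commutator K).index :=
  (Nat.card_congr (Equiv.subtypeEquivRight charDegree_one_iff)).trans card_linear

theorem charDegree_oneChar : charDegree (oneChar K : K → ℂ) = 1 :=
  (charDegree_one_iff _).2 rfl

/-- The degrees are positive, their squares sum to the order. -/
theorem exists_degree_gt_one (h : ¬ IsMulCommutative K) :
    ∃ χ : IrrCharacter K, 1 < charDegree (χ : K → ℂ) := by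
  classical
  have := Fintype.ofFinite (IrrCharacter K)
  by_contra hc
  push Not at hc
  have hpos : ∀ χ : IrrCharacter K, charDegree (χ : K → ℂ) = 1 := fun χ =>
    le_antisymm (hc χ) (Nat.pos_of_ne_zero (charDegree_eq χ).2)
  have h1 := sum_sq_nat (K := K)
  simp only [hpos, mul_one, Finset.sum_const, Finset.card_univ, smul_eq_mul] at h1
  have hall : Nat.card {χ : IrrCharacter K // charDegree (χ : K → ℂ) = 1} = Nat.card K := by
    rw [← h1, Nat.card_congr (Equiv.subtypeUnivEquiv hpos), Nat.card_eq_fintype_card]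
  rw [card_degree_one] at hall
  have hbot : commutator K = ⊥ := by
    have := (commutator K).card_mul_index
    rw [hall] at this
    exact Subgroup.eq_bot_of_card_eq _ ((Nat.mul_eq_right Nat.card_pos.ne').1 this)
  refine h ⟨⟨fun a b => ?_⟩⟩
  have hab : ⁅a, b⁆ ∈ commutator K :=
    Subgroup.commutator_mem_commutator (Subgroup.mem_top a) (Subgroup.mem_top b)
  rw [hbot, Subgroup.mem_bot, commutatorElement_eq_one_iff_mul_comm] at hab
  exact hab

/-- The characters of a group of order six without an element of order six. -/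
theorem irr_six (h6 : Nat.card K = 6) (ho : ∀ g : K, orderOf g ≠ 6) :
    ∃ θ ψ : IrrCharacter K, θ ≠ oneChar K ∧ charDegree (θ : K → ℂ) = 1 ∧
      charDegree (ψ : K → ℂ) = 2 ∧ ∀ χ : IrrCharacter K, χ = oneChar K ∨ χ = θ ∨ χ = ψ := by
  classical
  have := Fintype.ofFinite (IrrCharacter K)
  have hnc : ¬ IsMulCommutative K := by
    intro hc
    haveI : Fact (Nat.Prime 2) := ⟨Nat.prime_two⟩
    haveI : Fact (Nat.Prime 3) := ⟨Nat.prime_three⟩
    obtain ⟨a, ha⟩ := exists_prime_orderOf_dvd_card' (G := K) 2 (by rw [h6]; norm_num)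
    obtain ⟨b, hb⟩ := exists_prime_orderOf_dvd_card' (G := K) 3 (by rw [h6]; norm_num)
    have hab : Commute a b := hc.is_comm.comm a b
    refine ho (a * b) ?_
    rw [hab.orderOf_mul_eq_mul_orderOf_of_coprime (by rw [ha, hb]; norm_num), ha, hb]
  obtain ⟨ψ, hψ⟩ := exists_degree_gt_one hnc
  have hsum := sum_sq_nat (K := K)
  rw [h6, ← Finset.add_sum_erase _ _ (Finset.mem_univ ψ)] at hsum
  set T := (Finset.univ : Finset (IrrCharacter K)).erase ψ with hT
  have hone : oneChar K ∈ T := Finset.mem_erase.2
    ⟨fun e => by rw [← e, charDegree_oneChar] at hψ; omega, Finset.mem_univ _⟩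
  have hge : ∀ χ ∈ T, 1 ≤ charDegree (χ : K → ℂ) * charDegree (χ : K → ℂ) := fun χ _ =>
    Nat.one_le_iff_ne_zero.2 (Nat.mul_ne_zero (charDegree_eq χ).2 (charDegree_eq χ).2)
  have hψ2 : charDegree (ψ : K → ℂ) = 2 := by
    have : charDegree (ψ : K → ℂ) < 3 := by
      by_contra hge3
      push Not at hge3
      have := Nat.mul_le_mul hge3 hge3
      omega
    omega
  rw [hψ2, ← Finset.add_sum_erase _ _ hone, charDegree_oneChar] at hsum
  set T' := T.erase (oneChar K)
  have hne : T'.Nonempty := by
    by_contra he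
    rw [Finset.not_nonempty_iff_eq_empty] at he
    rw [he, Finset.sum_empty] at hsum
    omega
  obtain ⟨θ, hθ⟩ := hne
  obtain ⟨hθ1, hθT⟩ := Finset.mem_erase.1 hθ
  have hθd : charDegree (θ : K → ℂ) = 1 := by
    have h1 := Finset.single_le_sum (f := fun χ : IrrCharacter K =>
      charDegree (χ : K → ℂ) * charDegree (χ : K → ℂ)) (fun _ _ => Nat.zero_le _) hθ
    have h2 := Nat.pos_of_ne_zero (charDegree_eq θ).2
    by_contra hne1
    have := Nat.mul_le_mul (show 2 ≤ charDegree (θ : K → ℂ) by omega)
      (show 2 ≤ charDegree (θ : K → ℂ) by omega)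
    omega
  refine ⟨θ, ψ, hθ1, hθd, hψ2, fun χ => ?_⟩
  by_contra hc
  push Not at hc
  obtain ⟨c1, c2, c3⟩ := hc
  rw [← Finset.add_sum_erase _ _ hθ, hθd] at hsum
  have hχ : χ ∈ T'.erase θ := by
    simp [T', hT, c1, c2, c3]
  have h1 := Finset.single_le_sum (f := fun χ : IrrCharacter K =>
    charDegree (χ : K → ℂ) * charDegree (χ : K → ℂ)) (fun _ _ => Nat.zero_le _) hχ
  have := hge χ (Finset.mem_of_mem_erase (Finset.mem_of_mem_erase hχ))
  omega

theorem a4_classes : Nat.card (ConjClasses (alternatingGroup (Fin 4))) = 4 := by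
  rw [Nat.card_eq_fintype_card]
  decide +kernel

theorem four_degrees : ∀ a ∈ List.range 4, ∀ b ∈ List.range 4, ∀ c ∈ List.range 4,
    1 ≤ a → a ≤ b → b ≤ c → a * a + b * b + c * c = 11 → a = 1 ∧ b = 1 ∧ c = 3 := by decide

/-- The characters of a group of order 12 without an element of order six. -/
theorem irr_twelve (h12 : Nat.card K = 12) (ho : ∀ g : K, orderOf g ≠ 6) :
    ∃ ω θ : IrrCharacter K, ω ≠ oneChar K ∧ conjChar ω ≠ ω ∧ charDegree (ω : K → ℂ) = 1 ∧
      charDegree (θ : K → ℂ) = 3 ∧
      ∀ χ : IrrCharacter K, χ = oneChar K ∨ χ = ω ∨ χ = conjChar ω ∨ χ = θ := by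
  classical
  have := Fintype.ofFinite (IrrCharacter K)
  haveI : Fact (Nat.Prime 3) := ⟨Nat.prime_three⟩
  obtain ⟨b, hb⟩ := exists_prime_orderOf_dvd_card' (G := K) 3 (by rw [h12]; norm_num)
  obtain ⟨e⟩ := CfsgLib.Invol.mulEquiv_alternating_four h12 fun z hz hzc => by
    have hab : Commute z b := ((Subgroup.mem_center_iff.1 hzc) b).symm
    exact ho (z * b) (by
      rw [hab.orderOf_mul_eq_mul_orderOf_of_coprime (by rw [hz, hb]; norm_num), hz, hb])
  have hk : Nat.card (IrrCharacter K) = 4 := by
    rw [card_irr_eq_card_conjClasses, ← a4_classes]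
    refine Nat.card_congr (Equiv.ofBijective (ConjClasses.map e.toMonoidHom) ⟨fun x y => ?_, fun y => ?_⟩)
    · induction x using Quotient.inductionOn with
      | h a =>
        induction y using Quotient.inductionOn with
        | h c =>
          intro hac
          change ConjClasses.mk (e a) = ConjClasses.mk (e c) at hac
          obtain ⟨g, hg⟩ := isConj_iff.1 (ConjClasses.mk_eq_mk_iff_isConj.1 hac)
          exact ConjClasses.mk_eq_mk_iff_isConj.2 (isConj_iff.2 ⟨e.symm g, e.injective (by simp [hg])⟩)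
    · induction y using Quotient.inductionOn with
      | h a => exact ⟨ConjClasses.mk (e.symm a), congrArg ConjClasses.mk (e.apply_symm_apply a)⟩
  rw [Nat.card_eq_fintype_card] at hk
  have hc3 : ((Finset.univ : Finset (IrrCharacter K)).erase (oneChar K)).card = 3 := by
    rw [Finset.card_erase_of_mem (Finset.mem_univ _), Finset.card_univ, hk]
  obtain ⟨x, y, z, hxy, hxz, hyz, he⟩ := Finset.card_eq_three.1 hc3
  have hall : ∀ χ : IrrCharacter K, χ = oneChar K ∨ χ = x ∨ χ = y ∨ χ = z := fun χ => by
    by_cases h1 : χ = oneChar K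
    · exact Or.inl h1
    · have : χ ∈ ((Finset.univ : Finset (IrrCharacter K)).erase (oneChar K)) :=
        Finset.mem_erase.2 ⟨h1, Finset.mem_univ _⟩
      rw [he] at this
      simpa using Or.inr (a := χ = oneChar K) this
  have hne1 : ∀ χ ∈ ({x, y, z} : Finset (IrrCharacter K)), χ ≠ oneChar K := fun χ hχ =>
    (Finset.mem_erase.1 (he ▸ hχ)).1
  have hsum := sum_sq_nat (K := K)
  rw [h12, ← Finset.add_sum_erase _ _ (Finset.mem_univ (oneChar K)), he, charDegree_oneChar,
    Finset.sum_insert (by simp [hxy, hxz]), Finset.sum_pair hyz] at hsum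
  have hdeg : (charDegree (x : K → ℂ) = 3 ∧ charDegree (y : K → ℂ) = 1) ∨
      (charDegree (y : K → ℂ) = 3 ∧ charDegree (x : K → ℂ) = 1) ∨
      (charDegree (z : K → ℂ) = 3 ∧ charDegree (x : K → ℂ) = 1) := by
    have px := Nat.pos_of_ne_zero (charDegree_eq x).2
    have py := Nat.pos_of_ne_zero (charDegree_eq y).2
    have pz := Nat.pos_of_ne_zero (charDegree_eq z).2
    have bx : charDegree (x : K → ℂ) < 4 := by nlinarith
    have bY : charDegree (y : K → ℂ) < 4 := by nlinarith
    have bz : charDegree (z : K → ℂ) < 4 := by nlinarith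
    interval_cases charDegree (x : K → ℂ) <;> interval_cases charDegree (y : K → ℂ) <;>
      interval_cases charDegree (z : K → ℂ) <;> simp_all
  -- a non-trivial linear character is not real
  have hreal : ∀ w : IrrCharacter K, charDegree (w : K → ℂ) = 1 → conjChar w = w → w = oneChar K := by
    intro w hw hcw
    have hidx : (commutator K).index = 3 := by
      have hL := card_degree_one (K := K)
      rw [Nat.card_eq_fintype_card, Fintype.card_subtype,
        ← Finset.insert_erase (Finset.mem_univ (oneChar K)), Finset.filter_insert, he,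
        if_pos charDegree_oneChar, Finset.card_insert_of_notMem (by
          intro hm
          exact hne1 _ (Finset.mem_filter.1 hm).1 rfl)] at hL
      rw [← hL]
      have px := Nat.pos_of_ne_zero (charDegree_eq x).2
      have py := Nat.pos_of_ne_zero (charDegree_eq y).2
      have pz := Nat.pos_of_ne_zero (charDegree_eq z).2
      rcases hdeg with ⟨h3, h1⟩ | ⟨h3, h1⟩ | ⟨h3, h1⟩
      · have : charDegree (z : K → ℂ) = 1 := by nlinarith
        simp [Finset.filter_insert, Finset.filter_singleton, h3, h1, this, hyz]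
      · have : charDegree (z : K → ℂ) = 1 := by nlinarith
        simp [Finset.filter_insert, Finset.filter_singleton, h3, h1, this, hxz]
      · have : charDegree (y : K → ℂ) = 1 := by nlinarith
        simp [Finset.filter_insert, Finset.filter_singleton, h3, h1, this, hxy]
    obtain ⟨lam, hlam⟩ := linearCharEquiv.surjective ⟨w, (charDegree_one_iff w).1 hw⟩
    have hval : ∀ g, (w : K → ℂ) g = (lam g : ℂ) := fun g =>
      congrFun (congrArg (fun q => ((q.1 : IrrCharacter K) : K → ℂ)) hlam.symm) g
    refine Subtype.ext (funext fun g => ?_)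
    have hcube : g ^ 3 ∈ commutator K := hidx ▸ Subgroup.pow_index_mem (commutator K) g
    have hker : commutator K ≤ lam.ker := Abelianization.commutator_subset_ker lam
    have h3 : (lam g : ℂ) ^ 3 = 1 := by
      rw [← Units.val_pow_eq_pow_val, ← map_pow, MonoidHom.mem_ker.1 (hker hcube), Units.val_one]
    have hre : conj (lam g : ℂ) = (lam g : ℂ) := by
      rw [← hval, ← conjChar_apply, hcw]
    obtain ⟨r, hr⟩ := Complex.conj_eq_iff_real.1 hre
    rw [hr] at h3
    have hr3 : r ^ 3 = 1 := by exact_mod_cast h3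
    show (w : K → ℂ) g = 1
    rw [hval, hr]
    have hr1 : r = 1 := (pow_eq_one_iff_of_ne_zero (by norm_num)).1 hr3 |>.elim id
      (fun h => absurd h.2 (by decide))
    rw [hr1, Complex.ofReal_one]
  have hfin : ∀ w t : IrrCharacter K, w ≠ oneChar K → charDegree (w : K → ℂ) = 1 →
      charDegree (t : K → ℂ) = 3 → (∀ χ, χ = oneChar K ∨ χ = w ∨ χ = t ∨
        ∃ v, χ = v ∧ v ≠ oneChar K ∧ v ≠ w ∧ v ≠ t ∧
          ∀ χ', χ' = oneChar K ∨ χ' = w ∨ χ' = t ∨ χ' = v) →
      ∃ ω θ : IrrCharacter K, ω ≠ oneChar K ∧ conjChar ω ≠ ω ∧ charDegree (ω : K → ℂ) = 1 ∧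
        charDegree (θ : K → ℂ) = 3 ∧
        ∀ χ : IrrCharacter K, χ = oneChar K ∨ χ = ω ∨ χ = conjChar ω ∨ χ = θ := by
    intro w t hw1 hw ht hv
    have hne : conjChar w ≠ w := fun e => hw1 (hreal w hw e)
    have hd : charDegree (conjChar w : K → ℂ) = 1 := by
      rw [charDegree_one_iff, conjChar_apply, (charDegree_one_iff w).1 hw, map_one]
    have hc1 : conjChar w ≠ oneChar K := fun e => hw1 (by
      have := congrArg conjChar e
      rw [show conjChar (conjChar w) = w from Subtype.ext (funext fun g => by simp [conjChar_apply]),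
        show conjChar (oneChar K) = oneChar K from Subtype.ext (funext fun g => map_one _)] at this
      exact this)
    have hct : conjChar w ≠ t := fun e => by rw [e, ht] at hd; omega
    refine ⟨w, t, hw1, hne, hw, ht, fun χ => ?_⟩
    rcases hv χ with h | h | h | ⟨v, rfl, -, -, -, hall'⟩
    · exact Or.inl h
    · exact Or.inr (Or.inl h)
    · exact Or.inr (Or.inr (Or.inr h))
    · rcases hall' (conjChar w) with h | h | h | h
      · exact absurd h hc1
      · exact absurd h hne
      · exact absurd h hct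
      · exact Or.inr (Or.inr (Or.inl h.symm))
  have nx := hne1 x (by simp)
  have ny := hne1 y (by simp)
  have nz := hne1 z (by simp)
  rcases hdeg with ⟨h3, h1⟩ | ⟨h3, h1⟩ | ⟨h3, h1⟩
  · refine hfin y x ny h1 h3 fun χ => ?_
    rcases hall χ with h | h | h | h
    · exact Or.inl h
    · exact Or.inr (Or.inr (Or.inl h))
    · exact Or.inr (Or.inl h)
    · exact Or.inr (Or.inr (Or.inr ⟨z, h, nz, hyz.symm, hxz.symm, fun q => by
        rcases hall q with a | a | a | a <;> simp [a]⟩))
  · refine hfin x y nx h1 h3 fun χ => ?_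
    rcases hall χ with h | h | h | h
    · exact Or.inl h
    · exact Or.inr (Or.inl h)
    · exact Or.inr (Or.inr (Or.inl h))
    · exact Or.inr (Or.inr (Or.inr ⟨z, h, nz, hxz.symm, hyz.symm, fun q => by
        rcases hall q with a | a | a | a <;> simp [a]⟩))
  · refine hfin x z nx h1 h3 fun χ => ?_
    rcases hall χ with h | h | h | h
    · exact Or.inl h
    · exact Or.inr (Or.inl h)
    · exact Or.inr (Or.inr (Or.inr ⟨y, h, ny, hxy.symm, hyz, fun q => by
        rcases hall q with a | a | a | a <;> simp [a]⟩))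
    · exact Or.inr (Or.inr (Or.inl h))

end CfsgLib.Char.MTwentyFourOrder
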