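import Cfsg.Agent.Lib.Char.MTwentyFourOrder.Phase.BlockDegrees
import Cfsg.Agent.Lib.Char.MTwentyFourOrder.Phase.SmallParts
import Cfsg.Agent.Lib.Char.MTwentyFourOrder.Phase.Candidates

/-!
# Simple groups of order 244823040: the blocks at five and seven are among the candidates

The group acts on the characters of the part prime to the prime of the centralizer; an orbit gives a
block, whose degrees are among the candidates.
-/

set_option autoImplicit false
set_option linter.unusedSectionVars false
set_option linter.style.haveILetI false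

open Cfsg CfsgLib.Char CfsgLib.Block CfsgLib.Block.Cyclic
open scoped ComplexConjugate

namespace CfsgLib.Char.MTwentyFourOrder

universe u

/-- What is known of all the degrees before the blocks at five and seven are looked at. -/
structure BaseData (G : Type u) [Group G] [Fintype G] : Prop where
  card_eq : Nat.card G = 244823040
  mem_base : ∀ d ∈ degs G, d ∈ base
  linear : ∀ χ : IrrCharacter G, charDegree (χ : G → ℂ) = 1 → χ = oneChar G

variable {G : Type u} [Group G] [Fintype G] {p : ℕ} [hp : Fact p.Prime] [DecidableEq G]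
  (D : CycSetup p G) [Fintype D.K] [Fintype (Subgroup.centralizer (D.Q : Set G))]
  {M : Ideal AlgInt} [M.IsMaximal]

theorem secMult_oneChar (φ' : IrrCharacter D.K) (x : G) :
    secMult (oneChar G : G → ℂ) (φ' : D.K → ℂ) x = if oneChar D.K = φ' then 1 else 0 := by
  classical
  rw [← classInner_irr]
  rfl

/-- The trivial character is exactly in the part of the trivial character. -/
theorem oneChar_mem_iff (hM : IsPModular p M) (φ : IrrCharacter D.K) :
    oneChar G ∈ D.sectionSet φ ↔ φ = oneChar D.K := by
  classical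
  constructor
  · rintro ⟨i, -, hne⟩
    rw [secMult_oneChar] at hne
    by_contra h
    exact hne (if_neg (Ne.symm h))
  · rintro rfl
    exact ⟨1, one_ne_zero, by rw [secMult_oneChar, if_pos rfl]; exact one_ne_zero⟩

theorem count_one_blk (B : BaseData G) (hM : IsPModular p M) (φ : IrrCharacter D.K) [Decidable (φ = oneChar D.K)] :
    (blkDegs (D.sectionSet φ)).count 1 = if φ = oneChar D.K then 1 else 0 := by
  classical
  rw [blkDegs, Multiset.count_map, ← Finset.filter_val, Finset.card_val]
  split_ifs with h
  · rw [Finset.card_eq_one]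
    refine ⟨oneChar G, ?_⟩
    ext χ
    simp only [Finset.mem_filter, Set.Finite.mem_toFinset, Finset.mem_singleton]
    exact ⟨fun hχ => B.linear χ hχ.2.symm,
      fun e => e ▸ ⟨(oneChar_mem_iff D hM φ).2 h, charDegree_oneChar.symm⟩⟩
  · rw [Finset.card_eq_zero, Finset.filter_eq_empty_iff]
    intro χ hχ h1
    rw [Set.Finite.mem_toFinset, B.linear χ h1.symm, oneChar_mem_iff D hM φ] at hχ
    exact h hχ

/-- The squares in a part do not exceed the order. -/
theorem blk_sq_le (B : BaseData G) (S : Set (IrrCharacter G)) :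
    ((blkDegs S).map fun d => d * d).sum ≤ 244823040 := by
  classical
  have := Fintype.ofFinite (IrrCharacter G)
  have h := sum_sq_nat (K := G)
  rw [B.card_eq] at h
  rw [← h, blkDegs, Multiset.map_map]
  exact Finset.sum_le_univ_sum_of_nonneg fun χ => Nat.zero_le _

theorem blk_mem_base (B : BaseData G) {S : Set (IrrCharacter G)} {d : ℕ} (hd : d ∈ blkDegs S) :
    d ∈ base := by
  obtain ⟨χ, -, rfl⟩ := mem_blkDegs.1 hd
  exact B.mem_base _ (mem_blkDegs.2 ⟨χ, Set.mem_univ _, rfl⟩)

/-- The conditions on a list of signed degrees giving a block. -/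
theorem blockOK_blk (B : BaseData G) (hM : IsPModular p M) (φ : IrrCharacter D.K) {m : ℕ}
    (hm : 0 < m) {c : List ℤ} (hc : blkDegs (D.sectionSet φ) = (blockList m c : Multiset ℕ))
    [Decidable (φ = oneChar D.K)] :
    blockOK p m (if φ = oneChar D.K then 1 else 0) c = true ∧
      ∀ s ∈ c, s.natAbs ∈ base := by
  have hmem : ∀ d ∈ blockList m c, d ∈ base ∧ ¬ p ∣ d := fun d hd => by
    have hd' : d ∈ blkDegs (D.sectionSet φ) := by rw [hc]; exact hd
    refine ⟨blk_mem_base B hd', ?_⟩
    obtain ⟨χ, hχ, rfl⟩ := mem_blkDegs.1 hd'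
    exact sectionSet_prime D hM hχ
  have hx : c.sum.natAbs ∈ blockList m c :=
    List.mem_append_right _ (List.mem_replicate.2 ⟨hm.ne', rfl⟩)
  have hsq := blk_sq_le B (D.sectionSet φ)
  have h1 := count_one_blk D B hM φ
  rw [hc, Multiset.map_coe, Multiset.sum_coe] at hsq
  rw [hc, Multiset.coe_count] at h1
  refine ⟨?_, fun s hs => (hmem _ (List.mem_append_left _ (List.mem_map.2 ⟨s, hs, rfl⟩))).1⟩
  rw [blockOK, baseTest_of_mem (hmem _ hx).1, h1]
  simp only [Bool.true_and, beq_self_eq_true, Bool.and_true, Bool.and_eq_true, bne_iff_ne, ne_eq,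
    decide_eq_true_eq]
  exact ⟨fun h => (hmem _ hx).2 (Nat.dvd_of_mod_eq_zero h), hsq⟩

/-- A block of a non-trivial character is among the candidates. -/
theorem exists_cand_of (B : BaseData G) (hM : IsPModular p M) (φ : IrrCharacter D.K)
    (hne : φ ≠ oneChar D.K) {o e d r : ℕ} (ho : D.orbSize φ = o) (he : D.expCard φ = e)
    (hd : charDegree (φ : D.K → ℂ) = d) (hr : o * d = r) (hm : 0 < (p - 1) / e) :
    ∃ l ∈ blocksOf p r e, blkDegs (D.sectionSet φ) = (l : Multiset ℕ) := by
  classical
  obtain ⟨c, hlen, hres, hc⟩ := exists_block_list D hM φ ho he hd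
  have hc' : blkDegs (D.sectionSet φ) = (blockList ((p - 1) / e) c : Multiset ℕ) := hc
  obtain ⟨hok, hb⟩ := blockOK_blk D B hM φ hm hc'
  rw [if_neg hne] at hok
  obtain ⟨l, hl, hperm⟩ := exists_blocksOf c hlen (fun s hs => ⟨hb s hs, hr ▸ hres s hs, by
    intro h1
    have h0 := count_one_blk D B hM φ
    rw [if_neg hne, Multiset.count_eq_zero, hc'] at h0
    exact h0 (List.mem_append_left _ (List.mem_map.2 ⟨s, hs, h1⟩))⟩) hok
  exact ⟨l, hl, hc'.trans (Multiset.coe_eq_coe.2 hperm.symm)⟩

/-- The block of the trivial character is among the candidates. -/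
theorem exists_cand_one (B : BaseData G) (hM : IsPModular p M) {e : ℕ}
    (ho : D.orbSize (oneChar D.K) = 1) (he : D.expCard (oneChar D.K) = e) (hp3 : 3 ≤ p)
    (hm : 1 < (p - 1) / e ∨ e = p - 1) :
    ∃ l ∈ blocksOne p e, blkDegs (D.sectionSet (oneChar D.K)) = (l : Multiset ℕ) := by
  classical
  obtain ⟨c, hlen, hres, hc⟩ := exists_block_list D hM (oneChar D.K) ho he charDegree_oneChar
  set m := (p - 1) / e with hmdef
  have hm0 : 0 < m := by
    rcases hm with h | h
    · omega
    · rw [hmdef, h, Nat.div_self (by omega)]; norm_num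
  have hc' : blkDegs (D.sectionSet (oneChar D.K)) = (blockList m c : Multiset ℕ) := hc
  have hcount : (blockList m c).count 1 = 1 := by
    have h := count_one_blk D B hM (oneChar D.K)
    rwa [if_pos rfl, hc', Multiset.coe_count] at h
  have hunit : ∀ s : ℤ, (p : ℤ) ∣ s - 1 → s.natAbs = 1 → s = 1 := by
    intro s hs h1
    rcases Int.natAbs_eq s with h | h <;> rw [h1] at h
    · exact h
    · subst h
      have := Int.le_of_dvd (by norm_num) (by simpa using (dvd_neg.2 hs) : (p : ℤ) ∣ 2)
      omega
  have hres1 : ∀ s ∈ c, (p : ℤ) ∣ s - 1 := fun s hs => by simpa using hres s hs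
  -- a rearrangement starting with the trivial character
  obtain ⟨c', hlen', hres', hc1⟩ : ∃ c' : List ℤ, c'.length = e - 1 ∧ (∀ s ∈ c', (p : ℤ) ∣ s - 1) ∧
      (blockList m (1 :: c')).Perm (blockList m c) := by
    by_cases h1 : ∃ s ∈ c, s.natAbs = 1
    · obtain ⟨s, hs, hs1⟩ := h1
      obtain rfl := hunit s (hres1 s hs) hs1
      exact ⟨c.erase 1, by rw [List.length_erase_of_mem hs, hlen],
        fun t ht => hres1 t (List.mem_of_mem_erase ht),
        blockList_perm m (List.perm_cons_erase hs).symm⟩
    · push Not at h1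
      have hz : (c.map Int.natAbs).count 1 = 0 := List.count_eq_zero_of_not_mem fun h => by
        obtain ⟨s, hs, e1⟩ := List.mem_map.1 h
        exact h1 s hs e1
      rw [blockList, List.count_append, hz, zero_add, List.count_replicate] at hcount
      have hx : c.sum.natAbs = 1 ∧ m = 1 := by
        by_cases hx : c.sum.natAbs = 1 <;> simp [hx] at hcount ⊢
        exact hcount
      have hep : e = p - 1 := hm.resolve_left (by omega)
      obtain ⟨t, c₀, rfl⟩ : ∃ t c₀, c = t :: c₀ := by
        cases c with
        | nil => simp at hlen; omega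
        | cons t c₀ => exact ⟨t, c₀, rfl⟩
      have hsum : (p : ℤ) ∣ (t :: c₀).sum - (e : ℤ) := by
        rw [← hlen]
        clear hx hz hlen hc hc' hcount h1 hres
        generalize t :: c₀ = l at hres1 ⊢
        induction l with
        | nil => simp
        | cons a l ih =>
          have := dvd_add (hres1 a (by simp)) (ih fun s hs => hres1 s (List.mem_cons_of_mem _ hs))
          simp only [List.sum_cons, List.length_cons, Nat.cast_add, Nat.cast_one]
          obtain ⟨w, hw⟩ := this
          exact ⟨w, by linarith⟩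
      have hneg : (t :: c₀).sum = -1 := by
        rcases Int.natAbs_eq (t :: c₀).sum with h | h <;> rw [hx.1] at h
        · exfalso
          rw [h, hep, Nat.cast_sub (by omega)] at hsum
          have h2 : (p : ℤ) ∣ 2 := by
            obtain ⟨w, hw⟩ := hsum
            exact ⟨w + 1, by push_cast at hw; linarith⟩
          have := Int.le_of_dvd (by norm_num) h2
          omega
        · exact h
      refine ⟨c₀, by simp at hlen; omega, fun s hs => hres1 s (List.mem_cons_of_mem _ hs), ?_⟩
      rw [List.sum_cons] at hneg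
      have ht : (1 :: c₀).sum.natAbs = t.natAbs := by
        rw [List.sum_cons, show (1 : ℤ) + c₀.sum = -t by linarith, Int.natAbs_neg]
      simp only [blockList, hx.2, ht, hx.1, List.replicate_one, List.map_cons, List.cons_append,
        Int.natAbs_one]
      refine List.perm_iff_count.2 fun a => ?_
      simp only [List.count_append, List.count_cons, List.count_nil]
      omega
  have hc2 : blkDegs (D.sectionSet (oneChar D.K)) = (blockList m (1 :: c') : Multiset ℕ) :=
    hc'.trans (Multiset.coe_eq_coe.2 hc1.symm)
  obtain ⟨hok, hb⟩ := blockOK_blk D B hM (oneChar D.K) hm0 hc2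
  rw [if_pos rfl] at hok
  obtain ⟨l, hl, hperm⟩ := exists_blocksOne c' hlen' (fun s hs => ⟨hb s (List.mem_cons_of_mem _ hs),
    hres' s hs, fun h1 => by
      have hcnt : (blockList m (1 :: c')).count 1 = 1 := by rw [hc1.count_eq]; exact hcount
      have hpos : 0 < (c'.map Int.natAbs).count 1 :=
        List.count_pos_iff.2 (List.mem_map.2 ⟨s, hs, h1⟩)
      simp only [blockList, List.map_cons, List.cons_append, Int.natAbs_one, List.count_cons_self,
        List.count_append] at hcnt
      omega⟩) hok
  exact ⟨l, hl, hc2.trans (Multiset.coe_eq_coe.2 hperm.symm)⟩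

end CfsgLib.Char.MTwentyFourOrder
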