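import Cfsg.Agent.Lib.Char.MTwentyFourOrder.Phase.Assemble
import Cfsg.Agent.Lib.Char.ClassMul

/-!
# Simple groups of order 244823040: two lists of degrees are impossible

A class multiplication coefficient of elements of orders 7, 7 and 11 would not be an integer.
-/

set_option autoImplicit false
set_option linter.unusedSectionVars false
set_option linter.style.haveILetI false

open Cfsg CfsgLib.Char CfsgLib.Block CfsgLib.Block.Cyclic
open scoped ComplexConjugate

namespace CfsgLib.Char.MTwentyFourOrder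

universe u

variable {G : Type u} [Group G] [Fintype G]

section Setup

variable {p : ℕ} [hp : Fact p.Prime] [DecidableEq G]
  (D : CycSetup p G) [Fintype D.K] [Fintype (Subgroup.centralizer (D.Q : Set G))]
  {M : Ideal AlgInt} [M.IsMaximal]

theorem xp_neg (i : ZMod p) : D.xp (-i) = (D.xp i)⁻¹ := by
  refine eq_inv_of_mul_eq_one_left ?_
  rw [← D.xp_add, neg_add_cancel, D.xp_zero]

/-- A value at an element of order `p` for a character in no part. -/
theorem val_zero_of_notMem {χ : IrrCharacter G} (h : ∀ φ : IrrCharacter D.K, χ ∉ D.sectionSet φ)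
    {i : ZMod p} (hi : i ≠ 0) : (χ : G → ℂ) (D.xp i) = 0 := by
  classical
  have := Fintype.ofFinite (IrrCharacter D.K)
  have hv := value_eq_sum D.hQ D.hK (isClassFunction_irr χ) (D.xp_mem i) 1
  rw [OneMemClass.coe_one, mul_one] at hv
  rw [hv]
  refine Finset.sum_eq_zero fun φ _ => ?_
  by_contra hne
  exact h φ ⟨i, hi, fun h0 => hne (by rw [h0, zero_mul])⟩

/-- A value at an element of order `p` for a character in the part of a fixed linear character. -/
theorem val_eq_dval (hM : IsPModular p M) {φ : IrrCharacter D.K}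
    (hfix : ∀ φ' : IrrCharacter D.K, (D.withChar φ).InOrbit φ' → φ' = φ)
    {χ : IrrCharacter G} (hχ : χ ∈ D.sectionSet φ) {i : ZMod p} (hi : i ≠ 0) :
    (χ : G → ℂ) (D.xp i) = (D.withChar φ).dval (χ : G → ℂ) i * (φ : D.K → ℂ) 1 := by
  classical
  have := Fintype.ofFinite (IrrCharacter D.K)
  obtain ⟨B, hB⟩ := (D.withChar φ).exists_blockData hM
  have e : D.sectionSet φ = B := (D.withChar φ).sectionSet_eq hM hB
  have hv := value_eq_sum D.hQ D.hK (isClassFunction_irr χ) (D.xp_mem i) 1
  rw [OneMemClass.coe_one, mul_one] at hv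
  rw [hv, Finset.sum_eq_single φ]
  · rfl
  · intro φ' _ hne
    have h0 : secMult (χ : G → ℂ) (φ' : D.K → ℂ) (D.xp i) = 0 :=
      hB.sec_out χ (e ▸ hχ) φ' (fun ho => hne (hfix φ' ho)) i hi
    rw [h0, zero_mul]
  · simp

/-- The values at a self-centralized prime with all automorphisms. -/
theorem val_full (hM : IsPModular p M) (hC : Nat.card D.C = p)
    (hN : Nat.card (Subgroup.normalizer (D.Q : Set G)) = (p - 1) * p) (χ : IrrCharacter G)
    {i : ZMod p} (hi : i ≠ 0) :
    ∃ v : ℤ, (χ : G → ℂ) (D.xp i) = v ∧ (v = 0 ∨ v = 1 ∨ v = -1) ∧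
      (p : ℤ) ∣ v - (charDegree (χ : G → ℂ) : ℤ) := by
  classical
  have hK : Nat.card D.K = 1 := by
    have h := D.card_C
    rw [hC] at h
    exact (Nat.mul_eq_left hp.out.ne_zero).1 h.symm
  haveI : Subsingleton D.K := (Nat.card_eq_one_iff_unique.1 hK).1
  have huniq : ∀ φ : IrrCharacter D.K, φ = oneChar D.K := by
    intro φ
    have := Fintype.ofFinite (IrrCharacter D.K)
    have hs := sum_sq_nat (K := D.K)
    rw [hK, ← Finset.add_sum_erase _ _ (Finset.mem_univ (oneChar D.K)), charDegree_oneChar] at hs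
    by_contra hne
    have h1 := Finset.single_le_sum (f := fun χ : IrrCharacter D.K =>
      charDegree (χ : D.K → ℂ) * charDegree (χ : D.K → ℂ)) (fun _ _ => Nat.zero_le _)
      (Finset.mem_erase.2 ⟨hne, Finset.mem_univ φ⟩)
    have h2 := Nat.mul_pos (Nat.pos_of_ne_zero (charDegree_eq φ).2) (Nat.pos_of_ne_zero (charDegree_eq φ).2)
    omega
  have ho : D.orbSize (oneChar D.K) = 1 := orbSize_eq_one D _ fun φ' _ => huniq φ'
  by_cases hχ : χ ∈ D.sectionSet (oneChar D.K)
  · rw [val_eq_dval D hM (fun φ' _ => huniq φ') hχ hi,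
      show (oneChar D.K : D.K → ℂ) 1 = 1 from rfl, mul_one]
    obtain ⟨B, hB⟩ := (D.withChar (oneChar D.K)).exists_blockData hM
    have e : D.sectionSet (oneChar D.K) = B := (D.withChar (oneChar D.K)).sectionSet_eq hM hB
    obtain ⟨E⟩ := (D.withChar (oneChar D.K)).exists_exceptional_family hM hB
    have he : Nat.card (D.withChar (oneChar D.K)).expE = p - 1 := by
      rw [(D.withChar (oneChar D.K)).card_expE]
      have h := exp_mul_orb D (oneChar D.K) (k := p - 1) (by rw [hN, hC])
      rwa [ho, mul_one] at h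
    have horb : ((D.withChar (oneChar D.K)).stab.relIndex
        (Subgroup.normalizer ((D.withChar (oneChar D.K)).Q : Set G))) = 1 := ho
    have hd1 : charDegree ((D.withChar (oneChar D.K)).φ : D.K → ℂ) = 1 := charDegree_oneChar
    rcases (E.mem χ).1 (e ▸ hχ) with hu | ⟨k, rfl⟩
    · refine ⟨-(E.u χ), by rw [E.dval_of_u hu hi]; push_cast; rfl, ?_, ?_⟩
      · rcases E.u_cases χ with h | h | h <;> simp [h]
      · have hc := E.charDegree_u hB hu
        rw [horb, hd1, Int.modEq_iff_dvd] at hc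
        simpa using hc
    · have hsub : Subsingleton ((ZMod p)ˣ ⧸ (D.withChar (oneChar D.K)).expE) := by
        rw [← Finite.card_le_one_iff_subsingleton]
        have hm := Subgroup.card_eq_card_quotient_mul_card_subgroup (D.withChar (oneChar D.K)).expE
        have hp1 : Nat.card (ZMod p)ˣ = p - 1 := by
          rw [Nat.card_eq_fintype_card, ZMod.card_units_eq_totient, Nat.totient_prime hp.out]
        rw [he, hp1] at hm
        have h2 := hp.out.two_le
        exact le_of_eq ((Nat.mul_eq_right (by omega)).1 hm.symm)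
      have hvec : ∀ j : (ZMod p)ˣ, (D.withChar (oneChar D.K)).vec (E.Y k) j = E.δ := fun j => by
        rw [E.vec_Y, if_pos (Subsingleton.elim _ _), mul_one]
      refine ⟨-E.δ, by rw [(D.withChar (oneChar D.K)).dval_of_const hvec hi]; push_cast; rfl, ?_, ?_⟩
      · rcases E.sign with h | h <;> simp [h]
      · have hc := E.charDegree_Y hB k
        rw [horb, hd1, he, Int.modEq_iff_dvd, Nat.cast_sub hp.out.one_le] at hc
        obtain ⟨w, hw⟩ := hc
        exact ⟨w - E.δ, by push_cast at hw; linarith⟩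
  · refine ⟨0, ?_, Or.inl rfl, ?_⟩
    · rw [val_zero_of_notMem D (fun φ => huniq φ ▸ hχ) hi, Int.cast_zero]
    · rw [zero_sub, dvd_neg, Int.natCast_dvd_natCast]
      by_contra hd
      obtain ⟨φ', hφ'⟩ := exists_sectionSet D hM hd
      exact hχ (huniq φ' ▸ hφ')

end Setup

/-- The signed value at an element of order 11 of a character of given degree. -/
def sgElev (d : ℕ) : ℚ := if d % 11 = 1 then 1 else if d % 11 = 10 then -1 else 0

/-- The contribution of a degree other than 45 to the sum. -/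
def term (d : ℕ) : ℚ := if d % 7 ≠ 0 ∧ d ≠ 45 then sgElev d / d else 0

theorem term_sum_one : (([1, 45, 45, 231, 231, 252, 253, 483, 483, 770, 770, 990, 990, 1035, 1265,
    1265, 1265, 1288, 1288, 1771, 2024, 3312, 3520, 3795, 3795, 5544, 5796, 10395] : List ℕ).map
      term).sum = 1 + 1 / 1035 + 1 / 3312 := by
  norm_num [term, sgElev]

theorem term_sum_two : (([1, 45, 45, 230, 231, 231, 252, 253, 253, 483, 483, 770, 770, 990, 990,
    1035, 1265, 1265, 1288, 1771, 2024, 2277, 3520, 3795, 4830, 5544, 5796, 10395] : List ℕ).map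
      term).sum = 1 - 1 / 230 + 1 / 1035 := by
  norm_num [term, sgElev]

theorem not_int_one (K : ℕ) :
    (K : ℚ) ≠ 5829120 * 5829120 / 244823040 * (1 + 1 / 1035 + 1 / 3312 + 4 / 45) := by
  intro h
  have h3 : (3 : ℚ) * K = 453904 := by rw [h]; norm_num
  have : 3 * K = 453904 := by exact_mod_cast h3
  omega

theorem not_int_two (K : ℕ) :
    (K : ℚ) ≠ 5829120 * 5829120 / 244823040 * (1 - 1 / 230 + 1 / 1035 - 3 / 45) := by
  intro h
  have h3 : (3 : ℚ) * K = 387200 := by rw [h]; norm_num
  have : 3 * K = 387200 := by exact_mod_cast h3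
  omega

/-- The properties of a list that make the coefficient computable. -/
def listFacts (l : List ℕ) : Bool :=
  (l.count 45 == 2) && l.all fun d =>
    (d % 7 == 0) || (d % 11 == 0) || (d == 45) || ((d % 7 == 1 || d % 7 == 6) && l.count d == 1)

theorem bad_facts : ([[1, 45, 45, 230, 231, 231, 252, 253, 253, 483, 483, 770, 770, 990, 990, 1035,
    1265, 1265, 1288, 1771, 2024, 2277, 3520, 3795, 4830, 5544, 5796, 10395],
  [1, 45, 45, 231, 231, 252, 253, 483, 483, 770, 770, 990, 990, 1035, 1265, 1265, 1265, 1288, 1288,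
    1771, 2024, 3312, 3520, 3795, 3795, 5544, 5796, 10395]] : List (List ℕ)).all listFacts = true := by
  decide +kernel

theorem card_class {g : G} {k : ℕ} (hc : Nat.card (Subgroup.centralizer ({g} : Set G)) = k)
    {m : ℕ} (hm : Nat.card G = k * m) : Nat.card {x : G // IsConj g x} = m := by
  rw [card_isConj]
  have h := (Subgroup.centralizer ({g} : Set G)).card_mul_index
  rw [hc, hm] at h
  exact Nat.eq_of_mul_eq_mul_left (by
    rcases Nat.eq_zero_or_pos k with h0 | h0
    · exact absurd hc (by rw [h0]; exact Nat.card_pos.ne')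
    · exact h0) h

variable [IsSimpleGroup G]

set_option maxHeartbeats 1000000 in
/-- The last two lists do not occur. -/
theorem degree_twentyThree (hP : Params G) (hS : PartShapes G) :
    ∃ χ : IrrCharacter G, charDegree (χ : G → ℂ) = 23 ∧
      ∀ θ : IrrCharacter G, charDegree (θ : G → ℂ) = 23 → θ = χ := by
  classical
  obtain ⟨l, hl, hdeg⟩ := exists_final hP hS
  by_cases h23 : l.count 23 = 1
  · have h := count_degs (G := G) 23
    rw [hdeg, Multiset.coe_count, h23] at h
    obtain ⟨hs, ⟨χ, hχ⟩⟩ := Nat.card_eq_one_iff_unique.1 h.symm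
    exact ⟨χ, hχ, fun θ hθ => congrArg Subtype.val (hs.elim ⟨θ, hθ⟩ ⟨χ, hχ⟩)⟩
  exfalso
  have hfacts : listFacts l = true ∧
      ((l.map term).sum = 1 + 1 / 1035 + 1 / 3312 ∨ (l.map term).sum = 1 - 1 / 230 + 1 / 1035) := by
    have hb := List.all_eq_true.1 bad_facts
    simp only [finals, List.mem_cons, List.not_mem_nil, or_false] at hl
    rcases hl with rfl | rfl | rfl | rfl
    · exact absurd (by decide) h23
    · exact absurd (by decide) h23
    · exact ⟨hb _ (List.mem_cons_self), Or.inr term_sum_two⟩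
    · exact ⟨hb _ (List.mem_cons_of_mem _ List.mem_cons_self), Or.inl term_sum_one⟩
  obtain ⟨hlf, hsum⟩ := hfacts
  simp only [listFacts, Bool.and_eq_true, beq_iff_eq, List.all_eq_true, Bool.or_eq_true] at hlf
  obtain ⟨h45, hl1⟩ := hlf
  haveI : Fact (Nat.Prime 7) := ⟨by norm_num⟩
  haveI : Fact (Nat.Prime 11) := ⟨by norm_num⟩
  obtain ⟨x₀, hx₀⟩ := exists_prime_orderOf_dvd_card' (G := G) 7 (by rw [hP.card_eq]; norm_num)
  obtain ⟨S, hSQ'⟩ := exists_cycSetup (p := 7) (Q := Subgroup.zpowers x₀)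
    (by rw [Nat.card_zpowers, hx₀]) (by rw [hP.card_eq]; norm_num)
  obtain ⟨y₀, hy₀⟩ := exists_prime_orderOf_dvd_card' (G := G) 11 (by rw [hP.card_eq]; norm_num)
  obtain ⟨E, hEQ'⟩ := exists_cycSetup (p := 11) (Q := Subgroup.zpowers y₀)
    (by rw [Nat.card_zpowers, hy₀]) (by rw [hP.card_eq]; norm_num)
  letI := Fintype.ofFinite S.K
  letI := Fintype.ofFinite E.K
  letI := Fintype.ofFinite (Subgroup.centralizer (S.Q : Set G))
  letI := Fintype.ofFinite (Subgroup.centralizer (E.Q : Set G))
  letI := Fintype.ofFinite (IrrCharacter G)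
  obtain ⟨M₃, hM₃⟩ := exists_pModular (show Nat.Prime 7 by norm_num)
  haveI := hM₃.2.1
  obtain ⟨M₂, hM₂⟩ := exists_pModular (show Nat.Prime 11 by norm_num)
  haveI := hM₂.2.1
  have cent_eq : ∀ (q : ℕ) [Fact q.Prime] (D : CycSetup q G) (i : ZMod q), i ≠ 0 →
      Subgroup.centralizer ({D.xp i} : Set G) = Subgroup.centralizer (D.Q : Set G) := by
    intro q _ D i hi
    ext t
    rw [mem_centralizer_iff_commute D.hQ (D.xp_mem i) (D.xp_ne_one hi),
      Subgroup.mem_centralizer_singleton_iff]
    rfl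
  have hEC : Nat.card E.C = 11 := by
    show Nat.card (Subgroup.centralizer (E.Q : Set G)) = 11
    rw [← cent_eq 11 E 1 one_ne_zero, E.xp_one]
    exact hP.cent_eleven _ E.orderOf_x
  have hSC : Nat.card S.C = 42 := by
    show Nat.card (Subgroup.centralizer (S.Q : Set G)) = 42
    rw [← cent_eq 7 S 1 one_ne_zero, S.xp_one]
    exact hP.cent_seven _ S.orderOf_x
  have hb : ∀ χ : IrrCharacter G,
      (χ : G → ℂ) (E.xp 1) = ((sgElev (charDegree (χ : G → ℂ)) : ℚ) : ℂ) := by
    intro χ
    obtain ⟨v, hv, hv3, hvd⟩ := val_full E hM₂ hEC (hP.norm_eleven _ E.hQ) χ (i := 1) one_ne_zero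
    rw [hv, sgElev]
    rcases hv3 with rfl | rfl | rfl
    · rw [if_neg (by omega), if_neg (by omega)]; norm_num
    · rw [if_pos (by omega)]; norm_num
    · rw [if_neg (by omega), if_pos (by omega)]; norm_num
  have hSN : Nat.card (Subgroup.normalizer (S.Q : Set G)) = 3 * Nat.card S.C := by
    rw [hP.norm_seven _ S.hQ, hSC]
  have hSK : Nat.card S.K = 6 := by have := S.card_C; omega
  obtain ⟨θ, ψ, hθ1, hθd, hψd, hallS⟩ := irr_six (K := S.K) hSK fun g hg => by
    have hcm : Commute S.x (g : G) :=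
      Subgroup.mem_centralizer_iff.1 ((S.hK (g : G)).1 g.2).1 S.x S.hx
    refine hS.no_fortytwo (S.x * g) ?_
    rw [hcm.orderOf_mul_eq_mul_orderOf_of_coprime
      (by rw [S.orderOf_x, Subgroup.orderOf_coe, hg]; norm_num), S.orderOf_x,
      Subgroup.orderOf_coe, hg]
  have hfix : ∀ φ φ' : IrrCharacter S.K, (S.withChar φ).InOrbit φ' → φ' = φ := by
    intro φ φ' h
    have hd := inOrbit_degree S h
    rcases hallS φ with rfl | rfl | rfl
    · exact inOrbit_one S h
    · rcases hallS φ' with rfl | rfl | rfl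
      · exfalso
        obtain ⟨n, hn, e⟩ := h
        refine hθ1 (Subtype.ext (funext fun y => ?_))
        have := congrFun (congrArg Subtype.val e) (conjK S.hQ S.hK hn y)
        rw [conjKChar_apply] at this
        exact this
      · rfl
      · omega
    · rcases hallS φ' with rfl | rfl | rfl
      · rw [charDegree_oneChar] at hd; omega
      · omega
      · rfl
  -- facts about the block of a character
  have horb : ∀ φ : IrrCharacter S.K, S.orbSize φ = 1 := fun φ => orbSize_eq_one S φ (hfix φ)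
  have hexp : ∀ φ : IrrCharacter S.K, Nat.card (S.withChar φ).expE = 3 := fun φ => by
    rw [(S.withChar φ).card_expE]
    have h := exp_mul_orb S φ hSN
    rwa [horb, mul_one] at h
  -- the two characters of degree 45
  have h45card : Nat.card {χ : IrrCharacter G // charDegree (χ : G → ℂ) = 45} = 2 := by
    rw [← count_degs, hdeg, Multiset.coe_count, h45]
  obtain ⟨χ₀, hχ₀⟩ : ∃ χ : IrrCharacter G, charDegree (χ : G → ℂ) = 45 := by
    have : Nonempty {χ : IrrCharacter G // charDegree (χ : G → ℂ) = 45} :=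
      (Nat.card_pos_iff.1 (by omega)).1
    exact ⟨this.some, this.some.2⟩
  obtain ⟨φ₀, hφ₀⟩ := exists_sectionSet S hM₃ (χ := χ₀) (by rw [hχ₀]; norm_num)
  obtain ⟨B₀, hB₀⟩ := (S.withChar φ₀).exists_blockData hM₃
  have eB₀ : S.sectionSet φ₀ = B₀ := (S.withChar φ₀).sectionSet_eq hM₃ hB₀
  obtain ⟨E₀⟩ := (S.withChar φ₀).exists_exceptional_family hM₃ hB₀
  have hd₀ : charDegree (φ₀ : S.K → ℂ) = 1 ∨ charDegree (φ₀ : S.K → ℂ) = 2 := by
    rcases hallS φ₀ with rfl | rfl | rfl
    · exact Or.inl charDegree_oneChar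
    · exact Or.inl hθd
    · exact Or.inr hψd
  have horb₀ : ((S.withChar φ₀).stab.relIndex
      (Subgroup.normalizer ((S.withChar φ₀).Q : Set G))) = 1 := horb φ₀
  have hY₀ : χ₀ ∈ Set.range E₀.Y ∧ charDegree (φ₀ : S.K → ℂ) = 1 := by
    rcases (E₀.mem χ₀).1 (eB₀ ▸ hφ₀) with hu | ⟨k, hk⟩
    · exfalso
      have hc := E₀.charDegree_u hB₀ hu
      rw [horb₀, hχ₀, Int.modEq_iff_dvd] at hc
      change (7 : ℤ) ∣ -E₀.u χ₀ * (1 * (charDegree (φ₀ : S.K → ℂ) : ℤ)) - 45 at hc
      rcases hd₀ with e | e <;> rw [e] at hc <;>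
        rcases E₀.u_cases χ₀ with h | h | h <;> rw [h] at hc <;> norm_num at hc
    · refine ⟨⟨k, hk⟩, hd₀.resolve_right fun e => ?_⟩
      have hc := E₀.charDegree_Y hB₀ k
      rw [horb₀, hexp, Int.modEq_iff_dvd, hk, hχ₀] at hc
      change (7 : ℤ) ∣ E₀.δ * (3 * 1 * (charDegree (φ₀ : S.K → ℂ) : ℤ)) - 45 at hc
      rw [e] at hc
      rcases E₀.sign with h | h <;> rw [h] at hc <;> norm_num at hc
  obtain ⟨⟨k₀, hk₀⟩, hd1⟩ := hY₀
  have hφ1 : (φ₀ : S.K → ℂ) 1 = 1 := (charDegree_one_iff φ₀).1 hd1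
  set Ys := Finset.univ.filter fun χ : IrrCharacter G => χ ∈ Set.range E₀.Y with hYs
  set T45 := Finset.univ.filter fun χ : IrrCharacter G => charDegree (χ : G → ℂ) = 45 with hT45
  have hYT : T45 = Ys := by
    symm
    refine Finset.eq_of_subset_of_card_le ?_ ?_
    · intro χ hχ
      obtain ⟨k, rfl⟩ := (Finset.mem_filter.1 hχ).2
      refine Finset.mem_filter.2 ⟨Finset.mem_univ _, ?_⟩
      have h1 := E₀.regular_eq k k₀ 1 (by simp)
      rw [(charDegree_eq _).1, (charDegree_eq _).1] at h1
      rw [show charDegree (E₀.Y k : G → ℂ) = charDegree (E₀.Y k₀ : G → ℂ) by exact_mod_cast h1,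
        hk₀, hχ₀]
    · rw [hT45, hYs, ← Fintype.card_subtype, ← Fintype.card_subtype, ← Nat.card_eq_fintype_card,
        ← Nat.card_eq_fintype_card, h45card]
      have := E₀.card_range
      rw [hexp] at this
      exact le_of_eq this.symm
  -- the values at seven
  have hX : ∀ (φ : IrrCharacter S.K) (E' : (S.withChar φ).Exceptional (S.sectionSet φ)) (χ : IrrCharacter G),
      E'.u χ ≠ 0 → ∀ i j : ZMod 7, i ≠ 0 → j ≠ 0 →
        (S.withChar φ).dval (χ : G → ℂ) i * conj ((S.withChar φ).dval (χ : G → ℂ) j) = 1 := by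
    intro φ E' χ hu i j hi hj
    rw [E'.dval_of_u hu hi, E'.dval_of_u hu hj]
    rcases E'.u_cases χ with h | h | h
    · exact absurd h hu
    · simp [h]
    · simp [h]
  -- the sum over the two characters of degree 45
  have hpair : ∀ (j : ZMod 7), j ≠ 0 → ∑ χ ∈ T45, (χ : G → ℂ) (S.xp 1) * conj ((χ : G → ℂ) (S.xp j)) =
      (if ∃ r ∈ (S.withChar φ₀).expE, ((r : (ZMod 7)ˣ) : ZMod 7) * 1 = j then (7 : ℂ) else 0) - 3 := by
    intro j hj
    have hs := (S.withChar φ₀).sum_dval_mul (i := 1) (j := j) one_ne_zero hj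
    push_cast at hs
    rw [← hs]
    set Xs := Finset.univ.filter fun χ : IrrCharacter G => E₀.u χ ≠ 0 with hXs
    have hdisj : Disjoint Xs Ys := Finset.disjoint_filter.2 fun χ _ hu => by
      rintro ⟨k, rfl⟩
      exact hu (E₀.u_Y k)
    rw [← Finset.sum_subset (Finset.subset_univ (Xs.disjUnion Ys hdisj)) (fun χ _ hn => by
      have hout : χ ∉ B₀ := fun h => hn (by
        rcases (E₀.mem χ).1 h with h' | h'
        · exact Finset.mem_disjUnion.2 (Or.inl (Finset.mem_filter.2 ⟨Finset.mem_univ _, h'⟩))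
        · exact Finset.mem_disjUnion.2 (Or.inr (Finset.mem_filter.2 ⟨Finset.mem_univ _, h'⟩)))
      rw [hB₀.dval_out χ hout 1 one_ne_zero, zero_mul]), Finset.sum_disjUnion,
      Finset.sum_congr (s₁ := Xs) rfl (g := fun _ => (1 : ℂ)) (fun χ hχ => by
        have hu := (Finset.mem_filter.1 hχ).2
        subst eB₀
        exact hX φ₀ E₀ χ hu 1 j one_ne_zero hj), Finset.sum_const, hXs, ← Fintype.card_subtype,
      ← Nat.card_eq_fintype_card, E₀.card_u, hexp, hYT, nsmul_eq_mul]
    push_cast
    rw [mul_one, add_sub_cancel_left]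
    refine Finset.sum_congr rfl fun χ hχ => ?_
    have hmem : χ ∈ S.sectionSet φ₀ := by
      rw [eB₀]
      exact (E₀.mem χ).2 (Or.inr (Finset.mem_filter.1 hχ).2)
    rw [val_eq_dval S hM₃ (hfix φ₀) hmem one_ne_zero, val_eq_dval S hM₃ (hfix φ₀) hmem hj, hφ1,
      mul_one, mul_one]
  -- the singles
  have hsingle : ∀ (χ : IrrCharacter G), charDegree (χ : G → ℂ) ≠ 45 → ∀ j : ZMod 7, j ≠ 0 →
      (χ : G → ℂ) (S.xp 1) * conj ((χ : G → ℂ) (S.xp j)) * (χ : G → ℂ) (E.xp 1) / (χ : G → ℂ) 1 =
        ((term (charDegree (χ : G → ℂ)) : ℚ) : ℂ) := by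
    intro χ h45' j hj
    rw [hb χ, (charDegree_eq χ).1]
    set d := charDegree (χ : G → ℂ) with hd
    by_cases h7 : d % 7 = 0
    · rw [val_zero_of_notMem S (fun φ h => sectionSet_prime S hM₃ h (Nat.dvd_of_mod_eq_zero h7))
        one_ne_zero, term, if_neg (fun h => h.1 h7)]
      simp
    by_cases h11 : d % 11 = 0
    · rw [term, if_pos ⟨h7, h45'⟩, sgElev, if_neg (by omega), if_neg (by omega)]
      simp
    have hin : d ∈ l := by
      have : d ∈ degs G := mem_blkDegs.2 ⟨χ, Set.mem_univ _, rfl⟩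
      rwa [hdeg, Multiset.mem_coe] at this
    have hh := hl1 d hin
    simp only [h7, h11, h45', false_or] at hh
    obtain ⟨hres, hcnt⟩ := hh
    obtain ⟨φ, hφ⟩ := exists_sectionSet S hM₃ (χ := χ) (by
      rw [← hd]; intro h; exact h7 (Nat.mod_eq_zero_of_dvd h))
    obtain ⟨B, hB⟩ := (S.withChar φ).exists_blockData hM₃
    have eB : S.sectionSet φ = B := (S.withChar φ).sectionSet_eq hM₃ hB
    subst eB
    obtain ⟨E'⟩ := (S.withChar φ).exists_exceptional_family hM₃ hB
    have horb' : ((S.withChar φ).stab.relIndex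
        (Subgroup.normalizer ((S.withChar φ).Q : Set G))) = 1 := horb φ
    rcases (E'.mem χ).1 hφ with hu | ⟨k, hk⟩
    · have hc := E'.charDegree_u hB hu
      rw [horb', Int.modEq_iff_dvd, ← hd] at hc
      change (7 : ℤ) ∣ -E'.u χ * (1 * (charDegree (φ : S.K → ℂ) : ℤ)) - d at hc
      have hφd : charDegree (φ : S.K → ℂ) = 1 := by
        rcases hallS φ with rfl | rfl | rfl
        · exact charDegree_oneChar
        · exact hθd
        · exfalso
          rw [hψd] at hc
          rcases E'.u_cases χ with h | h | h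
          · exact hu h
          · rw [h] at hc; omega
          · rw [h] at hc; omega
      rw [val_eq_dval S hM₃ (hfix φ) hφ one_ne_zero, val_eq_dval S hM₃ (hfix φ) hφ hj,
        (charDegree_one_iff φ).1 hφd, mul_one, mul_one, hX φ E' χ hu 1 j one_ne_zero hj, one_mul,
        term, if_pos ⟨h7, h45'⟩]
      push_cast
      ring
    · exfalso
      -- an exceptional character would share its degree
      have h2 : 2 ≤ (degs G).count d := by
        rw [count_degs]
        refine le_trans (le_of_eq ?_) (Nat.card_le_card_of_injective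
          (fun y : Set.range E'.Y => (⟨y.1, ?_⟩ : {θ : IrrCharacter G // charDegree (θ : G → ℂ) = d}))
          fun a b h => Subtype.ext (congrArg (fun q => (q.1 : IrrCharacter G)) h))
        · rw [E'.card_range, hexp]
        · obtain ⟨k', hk'⟩ := y.2
          have h1 := E'.regular_eq k' k 1 (by simp)
          rw [(charDegree_eq _).1, (charDegree_eq _).1] at h1
          rw [← hk', hd, ← hk]
          exact_mod_cast h1
      rw [hdeg, Multiset.coe_count, hcnt] at h2
      omega
  -- the coefficient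
  have key : ∀ j : ZMod 7, j ≠ 0 → ∃ K : ℕ, (K : ℂ) = 5829120 * 5829120 / 244823040 *
      (((l.map term).sum : ℚ) + ((if ∃ r ∈ (S.withChar φ₀).expE, ((r : (ZMod 7)ˣ) : ZMod 7) * 1 = j
        then (7 : ℂ) else 0) - 3) / 45) := by
    intro j hj
    refine ⟨classConst (S.xp 1) (S.xp (-j)) (E.xp 1), ?_⟩
    have c7 : ∀ i : ZMod 7, i ≠ 0 → Nat.card {x : G // IsConj (S.xp i) x} = 5829120 := fun i hi =>
      card_class (k := 42) (by rw [cent_eq 7 S i hi]; exact hSC) (by rw [hP.card_eq])
    rw [classConst_formula, c7 1 one_ne_zero, c7 (-j) (neg_ne_zero.2 hj), hP.card_eq,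
      finsum_eq_sum_of_fintype]
    push_cast
    congr 1
    have hconj : ∀ χ : IrrCharacter G,
        conj ((χ : G → ℂ) (E.xp 1)) = (χ : G → ℂ) (E.xp 1) := fun χ => by rw [hb χ, map_ratCast]
    simp only [xp_neg, irr_inv, hconj]
    rw [← Finset.sum_filter_add_sum_filter_not Finset.univ
      (fun χ : IrrCharacter G => charDegree (χ : G → ℂ) = 45), ← hT45, add_comm]
    congr 1
    · rw [List.map_map, ← Multiset.sum_coe, ← Multiset.map_coe, ← hdeg, sum_map_degs]
      simp only [Function.comp_apply]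
      rw [
        ← Finset.sum_filter_add_sum_filter_not Finset.univ
          (fun χ : IrrCharacter G => charDegree (χ : G → ℂ) = 45)
          (fun χ => ((term (charDegree (χ : G → ℂ)) : ℚ) : ℂ)),
        Finset.sum_eq_zero (s := Finset.univ.filter fun χ : IrrCharacter G =>
          charDegree (χ : G → ℂ) = 45) (fun χ hχ => by
            rw [(Finset.mem_filter.1 hχ).2, term, if_neg (fun h => h.2 rfl), Rat.cast_zero]),
        zero_add]
      exact Finset.sum_congr rfl fun χ hχ => hsingle χ (Finset.mem_filter.1 hχ).2 j hj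
    · rw [← hpair j hj, Finset.sum_div]
      refine Finset.sum_congr rfl fun χ hχ => ?_
      have hd45 := (Finset.mem_filter.1 hχ).2
      rw [hb χ, (charDegree_eq χ).1, hd45, sgElev, if_pos (by norm_num)]
      push_cast
      ring
  rcases hsum with hs | hs
  · obtain ⟨K, hK⟩ := key 1 one_ne_zero
    rw [if_pos ⟨1, one_mem _, by simp⟩, hs] at hK
    refine not_int_one K ?_
    have : ((K : ℚ) : ℂ) =
        ((5829120 * 5829120 / 244823040 * (1 + 1 / 1035 + 1 / 3312 + 4 / 45) : ℚ) : ℂ) := by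
      push_cast at hK ⊢
      rw [hK]
      ring
    exact_mod_cast this
  · have hne : (-1 : ZMod 7) ≠ 0 := neg_ne_zero.2 one_ne_zero
    obtain ⟨K, hK⟩ := key (-1) hne
    rw [if_neg ?_, hs] at hK
    · refine not_int_two K ?_
      have : ((K : ℚ) : ℂ) =
          ((5829120 * 5829120 / 244823040 * (1 - 1 / 230 + 1 / 1035 - 3 / 45) : ℚ) : ℂ) := by
        push_cast at hK ⊢
        rw [hK]
        ring
      exact_mod_cast this
    · rintro ⟨r, hr, he⟩
      rw [mul_one] at he
      have h2 : r * r = 1 := Units.ext (by rw [Units.val_mul, he, Units.val_one, neg_mul_neg, one_mul])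
      have hord : orderOf (⟨r, hr⟩ : (S.withChar φ₀).expE) ∣ 3 := hexp φ₀ ▸ orderOf_dvd_natCard _
      rcases (Nat.dvd_prime Nat.prime_three).1 hord with h | h
      · have := congrArg Subtype.val (orderOf_eq_one_iff.1 h)
        simp only [OneMemClass.coe_one] at this
        rw [this, Units.val_one] at he
        have h2z : ((2 : ℕ) : ZMod 7) = 0 := by push_cast; linear_combination he
        rw [CharP.cast_eq_zero_iff (ZMod 7) 7] at h2z
        norm_num at h2z
      · have h3 : orderOf (⟨r, hr⟩ : (S.withChar φ₀).expE) ∣ 2 :=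
          orderOf_dvd_of_pow_eq_one (Subtype.ext (by rw [SubgroupClass.coe_pow, pow_two, h2]; rfl))
        rw [h] at h3
        norm_num at h3

end CfsgLib.Char.MTwentyFourOrder
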