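import Cfsg.Agent.Lib.Char.MTwentyFourOrder.Phase.Kill
import Cfsg.Agent.Lib.Spor.M24Order.FromDegree
import Cfsg.Agent.Lib.Char.MTwentyFourOrder.Phase.Assemble

/-!
# A simple group of order 244823040 with given local data at 23, 11, 7 and 5 is `M24`
-/

set_option autoImplicit false
set_option linter.unusedSectionVars false
set_option linter.style.haveILetI false

open Cfsg CfsgLib.Char CfsgLib.Block

namespace CfsgLib.Char.MTwentyFourOrder

universe u

/-- A simple group with the orders of centralizers and normalizers of `M24` at 23, 11, 7 and 5 and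
without elements of order 20, 30, 42 is `M24`. -/
theorem iso_of_params {G : Type u} [Group G] [Finite G] [IsSimpleGroup G] (hP : Params G)
    (hS : PartShapes G) : Nonempty (G ≃* Cfsg.M24) := by
  classical
  haveI := Fintype.ofFinite G
  obtain ⟨χ, hd, huniq⟩ := degree_twentyThree hP hS
  have h1 : (χ : G → ℂ) 1 = 23 := by rw [(charDegree_eq χ).1, hd]; norm_num
  refine CfsgLib.Spor.M24Order.iso_of_degree hP.card_eq hP.norm_big hP.cent_eleven hP.norm_eleven
    χ h1 fun g => CfsgLib.Spor.M24Order.int_valued_of_unique χ (fun θ hθ => huniq θ ?_) g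
  rw [(charDegree_eq θ).1, (charDegree_eq χ).1] at hθ
  rw [← hd]
  exact_mod_cast hθ

end CfsgLib.Char.MTwentyFourOrder
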