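import Cfsg.Agent.Lib.Char.MTwentyFourOrder.Phase.Candidates
import Cfsg.Agent.Lib.Char.MTwentyFourOrder.Phase.Leaf
import Cfsg.Agent.Lib.Char.MTwentyFourOrder.Phase.Search

/-!
# Simple groups of order 244823040: the run of the search through the blocks at five and seven
-/

set_option autoImplicit false
set_option maxRecDepth 100000
set_option maxHeartbeats 4000000
set_option Elab.async false

namespace CfsgLib.Char.MTwentyFourOrder

/-- The caps on the counts. -/
def capsSwap : List ℕ := [7, 7, 8, 3, 4, 13, 11]

/-- The lists to choose from, with the principal block at seven given. -/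
def remSwap (l : List ℕ) : List (Bool × List Blk) :=
  [(true, fiveP.map mkBlk), (true, fiveTwo.map mkBlk), (true, fiveThree.map mkBlk),
    (false, [mkBlk l]), (false, sevenOne.map mkBlk), (false, sevenTwo.map mkBlk)]

theorem run_swap_0 : go leaf 6 (remSwap [1, 22, 22, 45, 45]) (featOff capsSwap) 0 0 0 0 = true := by
  decide +kernel

theorem run_swap_1 : go leaf 6 (remSwap [1, 22, 253, 276, 276]) (featOff capsSwap) 0 0 0 0 = true := by
  decide +kernel

theorem run_swap_2 : go leaf 6 (remSwap [1, 22, 736, 759, 759]) (featOff capsSwap) 0 0 0 0 = true := by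
  decide +kernel

theorem run_swap_3 : go leaf 6 (remSwap [1, 22, 1012, 1012, 1035]) (featOff capsSwap) 0 0 0 0 = true := by
  decide +kernel

theorem run_swap_4 : go leaf 6 (remSwap [1, 253, 736, 990, 990]) (featOff capsSwap) 0 0 0 0 = true := by
  decide +kernel

theorem run_swap_5 : go leaf 6 (remSwap [1, 276, 276, 3520, 3795]) (featOff capsSwap) 0 0 0 0 = true := by
  decide +kernel

theorem run_swap_6 : go leaf 6 (remSwap [1, 990, 990, 1035, 2024]) (featOff capsSwap) 0 0 0 0 = true := by
  decide +kernel

theorem run_swap_7 : go leaf 6 (remSwap [1, 1035, 3520, 4554, 4554]) (featOff capsSwap) 0 0 0 0 = true := by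
  decide +kernel

theorem run_swap {l : List ℕ} (hl : l ∈ sevenP) :
    go leaf 6 (remSwap l) (featOff capsSwap) 0 0 0 0 = true := by
  simp only [sevenP, List.mem_cons, List.not_mem_nil, or_false] at hl
  rcases hl with rfl | rfl | rfl | rfl | rfl | rfl | rfl | rfl
  exacts [run_swap_0, run_swap_1, run_swap_2, run_swap_3, run_swap_4, run_swap_5, run_swap_6, run_swap_7]

end CfsgLib.Char.MTwentyFourOrder
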